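import Cfsg.Agent.H883.Root
import Cfsg.Agent.H883.Sub
import Mathlib
import Cfsg.Agent.S0058
set_option linter.all false

-- part: H888/Rat
section
/-!
Rational structures: the `F₀`-span of a basis of `V` for a subfield `F₀` of `F`, and quadratic forms
that are `F₀`-valued on it.
-/

set_option autoImplicit false

namespace Cfsg.Agent.H888.Rat

open QuadraticMap Cfsg.Agent.LieClassical.OrthCore Cfsg.Agent.LieClassical.OrthTrans
  Cfsg.Agent.LieClassical.OrthFinite Cfsg.Agent.H883.Root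

variable {F V : Type*} [Field F] [AddCommGroup V] [Module F V] {ι : Type*}

/-- Vectors all of whose coordinates in the basis `b` lie in the subfield `F₀`. -/
def rat (b : Module.Basis ι F V) (F₀ : Subfield F) : Submodule F₀ V where
  carrier := {v | ∀ i, b.repr v i ∈ F₀}
  add_mem' {x y} hx hy := fun i => by
    rw [map_add, Finsupp.add_apply]
    exact F₀.add_mem (hx i) (hy i)
  zero_mem' := fun i => by
    rw [map_zero, Finsupp.zero_apply]
    exact F₀.zero_mem
  smul_mem' c x hx := fun i => by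
    have e : c • x = (c : F) • x := rfl
    rw [e, map_smul, Finsupp.smul_apply, smul_eq_mul]
    exact F₀.mul_mem c.2 (hx i)

variable {b : Module.Basis ι F V} {F₀ : Subfield F} {Q : QuadraticForm F V}

theorem mem_rat {v : V} : v ∈ rat b F₀ ↔ ∀ i, b.repr v i ∈ F₀ := Iff.rfl

theorem rat_smul {c : F} (hc : c ∈ F₀) {v : V} (hv : v ∈ rat b F₀) : c • v ∈ rat b F₀ :=
  (rat b F₀).smul_mem (⟨c, hc⟩ : F₀) hv

theorem basis_mem (i : ι) : b i ∈ rat b F₀ := by
  classical
  intro j
  rw [b.repr_self, Finsupp.single_apply]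
  split_ifs
  · exact F₀.one_mem
  · exact F₀.zero_mem

theorem mem_of_smul_mem {c : F} {v : V} (hv : v ∈ rat b F₀) (h0 : v ≠ 0) (h : c • v ∈ rat b F₀) :
    c ∈ F₀ := by
  have h1 : b.repr v ≠ 0 := by
    intro h2
    exact h0 (b.repr.map_eq_zero_iff.1 h2)
  obtain ⟨i, hi⟩ := Finsupp.ne_iff.1 h1
  rw [Finsupp.zero_apply] at hi
  have h2 := h i
  rw [map_smul, Finsupp.smul_apply, smul_eq_mul] at h2
  have h3 := F₀.mul_mem h2 (F₀.inv_mem (hv i))
  rwa [mul_assoc, mul_inv_cancel₀ hi, mul_one] at h3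

/-- `Q` is `F₀`-valued on the rational vectors. -/
def IsRat (Q : QuadraticForm F V) (b : Module.Basis ι F V) (F₀ : Subfield F) : Prop :=
  ∀ v ∈ rat b F₀, Q v ∈ F₀

theorem IsRat.polar (h : IsRat Q b F₀) {u v : V} (hu : u ∈ rat b F₀) (hv : v ∈ rat b F₀) :
    QuadraticMap.polar Q u v ∈ F₀ :=
  F₀.sub_mem (F₀.sub_mem (h _ ((rat b F₀).add_mem hu hv)) (h _ hu)) (h _ hv)

theorem eq_of_rat {W : Type*} [AddCommGroup W] [Module F W] {f g : V →ₗ[F] W}
    (h : ∀ u ∈ rat b F₀, f u = g u) : f = g :=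
  b.ext fun i => h _ (basis_mem i)

theorem eq_zero_of_perp (hQ : Nondeg Q) {x : V} (h : ∀ u ∈ rat b F₀, QuadraticMap.polar Q x u = 0) :
    x = 0 := by
  apply hQ
  intro y
  have : (polarBilin Q x) = (0 : V →ₗ[F] F) := eq_of_rat (b := b) (F₀ := F₀) fun u hu => h u hu
  exact LinearMap.congr_fun this y

section Theta

variable [Fintype ι]

/-- Coordinatewise application of an `F₀`-linear functional `θ : F → F₀`. -/
noncomputable def tv (b : Module.Basis ι F V) (θ : F →ₗ[F₀] F₀) (v : V) : V :=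
  ∑ i, ((θ (b.repr v i) : F₀) : F) • b i

theorem tv_mem (θ : F →ₗ[F₀] F₀) (v : V) : tv b θ v ∈ rat b F₀ := by
  refine Submodule.sum_mem _ fun i _ => rat_smul (θ (b.repr v i)).2 (basis_mem i)

theorem polar_sum_right (Q : QuadraticForm F V) {κ : Type*} (s : Finset κ) (u : V) (f : κ → V) :
    QuadraticMap.polar Q u (∑ i ∈ s, f i) = ∑ i ∈ s, QuadraticMap.polar Q u (f i) := by
  have h := map_sum (polarBilin Q u) f s
  simp only [polarBilin_apply_apply] at h
  exact h

theorem polar_tv (hR : IsRat Q b F₀) (θ : F →ₗ[F₀] F₀) {u : V} (hu : u ∈ rat b F₀) (v : V) :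
    QuadraticMap.polar Q u (tv b θ v) = (θ (QuadraticMap.polar Q u v) : F) := by
  have e : QuadraticMap.polar Q u v = ∑ i, b.repr v i * QuadraticMap.polar Q u (b i) := by
    conv_lhs => rw [← b.sum_repr v]
    rw [polar_sum_right]
    refine Finset.sum_congr rfl fun i _ => ?_
    rw [polar_smul_right, smul_eq_mul]
  rw [e, tv, polar_sum_right, map_sum, AddSubmonoidClass.coe_finsetSum]
  refine Finset.sum_congr rfl fun i _ => ?_
  rw [polar_smul_right, smul_eq_mul]
  have h1 : b.repr v i * QuadraticMap.polar Q u (b i) =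
      (⟨QuadraticMap.polar Q u (b i), hR.polar hu (basis_mem i)⟩ : F₀) • b.repr v i := by
    rw [Subfield.smul_def, smul_eq_mul, mul_comm]
  rw [h1, map_smul, smul_eq_mul, MulMemClass.coe_mul, mul_comm]

/-- Duality: a vector with `F₀`-valued pairing with all rational vectors is rational. -/
theorem mem_rat_of_polar (hQ : Nondeg Q) (hR : IsRat Q b F₀) {x : V}
    (h : ∀ u ∈ rat b F₀, QuadraticMap.polar Q u x ∈ F₀) : x ∈ rat b F₀ := by
  obtain ⟨θ, hθ⟩ := (Algebra.linearMap F₀ F).exists_leftInverse_of_injective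
    (LinearMap.ker_eq_bot.2 (algebraMap F₀ F).injective)
  have hθ' : ∀ c : F, c ∈ F₀ → ((θ c : F₀) : F) = c := by
    intro c hc
    have h1 := LinearMap.congr_fun hθ ⟨c, hc⟩
    exact congrArg (fun z : F₀ => (z : F)) h1
  have h1 : x - tv b θ x = 0 := by
    apply eq_zero_of_perp hQ (b := b) (F₀ := F₀)
    intro u hu
    rw [polar_comm, polar_sub_right, polar_tv hR θ hu, hθ' _ (h u hu), sub_self]
  rw [sub_eq_zero.1 h1]
  exact tv_mem θ x

/-- Separation by rational vectors. -/
theorem exists_rat_sep (hR : IsRat Q b F₀) [FiniteDimensional F₀ F] {S : Set V}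
    (hS : ∀ s ∈ S, s ∈ rat b F₀) {x v : V} (hv : ∀ s ∈ S, QuadraticMap.polar Q s v = 0)
    (hx : QuadraticMap.polar Q x v ≠ 0) :
    ∃ w ∈ rat b F₀, (∀ s ∈ S, QuadraticMap.polar Q s w = 0) ∧ QuadraticMap.polar Q x w ≠ 0 := by
  classical
  let c := Module.finBasis F₀ F
  by_contra hcon
  push Not at hcon
  have h1 : ∀ j, QuadraticMap.polar Q x (tv b (c.coord j) v) = 0 := by
    intro j
    refine hcon _ (tv_mem _ _) fun s hs => ?_
    rw [polar_tv hR _ (hS s hs), hv s hs, map_zero, ZeroMemClass.coe_zero]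
  apply hx
  have e : v = ∑ j, c j • tv b (c.coord j) v := by
    apply b.ext_elem
    intro i
    rw [map_sum, Finsupp.finsetSum_apply]
    have h2 : ∀ j, (b.repr (c j • tv b (c.coord j) v)) i = (c.repr (b.repr v i) j) • c j := by
      intro j
      rw [map_smul, Finsupp.smul_apply, tv, map_sum, Finsupp.finsetSum_apply]
      rw [Finset.sum_eq_single i]
      · rw [map_smul, Finsupp.smul_apply, b.repr_self, Finsupp.single_eq_same]
        rw [Module.Basis.coord_apply, Subfield.smul_def]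
        simp only [smul_eq_mul, mul_one]
        ring
      · intro k _ hk
        rw [map_smul, Finsupp.smul_apply, b.repr_self, Finsupp.single_eq_of_ne (Ne.symm hk)]
        simp
      · intro h; exact absurd (Finset.mem_univ i) h
    rw [Finset.sum_congr rfl fun j _ => h2 j, c.sum_repr]
  rw [e, polar_sum_right]
  refine Finset.sum_eq_zero fun j _ => ?_
  rw [polar_smul_right, h1, smul_zero]

end Theta

end Cfsg.Agent.H888.Rat
end

-- part: H888/RatForm
section
/-!
The quadratic form induced on a rational structure; hyperbolic pairs orthogonal to given vectors;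
transitivity of the rational Siegel transformations on rational singular vectors.
-/

set_option autoImplicit false

namespace Cfsg.Agent.H888.Rat

open QuadraticMap Cfsg.Agent.LieClassical.OrthCore Cfsg.Agent.LieClassical.OrthTrans
  Cfsg.Agent.LieClassical.OrthFinite Cfsg.Agent.H883.Root

section General

variable {F V : Type*} [Field F] [AddCommGroup V] [Module F V] {Q : QuadraticForm F V}

/-- **A hyperbolic pair orthogonal to `m` given vectors**, finite field, dimension at least `2 m + 3`. -/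
theorem exists_hyp_orth [Finite F] (hQ : Nondeg Q) {m : ℕ} (s : Fin m → V)
    (hm : 2 * m + 3 ≤ Module.finrank F V) :
    ∃ x y, Hyp Q x y ∧ (∀ i, polar Q (s i) x = 0) ∧ (∀ i, polar Q (s i) y = 0) := by
  have : Module.Finite F V := Module.finite_of_finrank_pos (by omega)
  let S : Submodule F V := Submodule.span F (Set.range s)
  have hS : Module.finrank F S ≤ m := by
    have := finrank_range_le_card (R := F) s
    simpa [Set.finrank] using this
  have hperp : Module.finrank F S + Module.finrank F (Cfsg.Agent.H883.Sub.perp Q S) =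
      Module.finrank F V := by
    have := Cfsg.Agent.H883.Sub.finrank_perp hQ S
    omega
  obtain ⟨T, hT⟩ := Submodule.exists_isCompl (S.comap (Cfsg.Agent.H883.Sub.perp Q S).subtype)
  have h1 := Submodule.finrank_add_eq_of_isCompl hT
  have h2 : Module.finrank F (S.comap (Cfsg.Agent.H883.Sub.perp Q S).subtype) ≤ m := by
    have h3 : Module.finrank F (S.comap (Cfsg.Agent.H883.Sub.perp Q S).subtype) ≤
        Module.finrank F S := by
      let f : (S.comap (Cfsg.Agent.H883.Sub.perp Q S).subtype) →ₗ[F] S :=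
        LinearMap.codRestrict S ((Cfsg.Agent.H883.Sub.perp Q S).subtype.comp
          (S.comap (Cfsg.Agent.H883.Sub.perp Q S).subtype).subtype) (fun x => x.2)
      have hf : Function.Injective f := by
        intro x y hxy
        have : ((x : Cfsg.Agent.H883.Sub.perp Q S) : V) = ((y : Cfsg.Agent.H883.Sub.perp Q S) : V) :=
          congrArg (fun z : S => (z : V)) hxy
        exact Subtype.ext (Subtype.ext this)
      exact LinearMap.finrank_le_finrank_of_injective hf
    omega
  have h4 : Module.finrank F (T.map (Cfsg.Agent.H883.Sub.perp Q S).subtype) = Module.finrank F T :=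
    LinearEquiv.finrank_eq (Submodule.equivMapOfInjective _ (Submodule.subtype_injective _) T).symm
  obtain ⟨x, hxT, hx0, hx⟩ := exists_sing_mem (Q := Q)
    (T.map (Cfsg.Agent.H883.Sub.perp Q S).subtype) (by omega)
  obtain ⟨x', hx'T, rfl⟩ := hxT
  have hxS : ((x' : Cfsg.Agent.H883.Sub.perp Q S) : V) ∉ S := by
    intro hmem
    have h5 : x' ∈ S.comap (Cfsg.Agent.H883.Sub.perp Q S).subtype := hmem
    have h6 := Submodule.disjoint_def.1 hT.disjoint x' h5 hx'T
    exact hx0 (by rw [h6]; rfl)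
  have hxperp : ((x' : Cfsg.Agent.H883.Sub.perp Q S) : V) ∉
      Cfsg.Agent.H883.Sub.perp Q (Cfsg.Agent.H883.Sub.perp Q S) := by
    rw [Cfsg.Agent.H883.Sub.perp_perp hQ]
    exact hxS
  rw [Cfsg.Agent.H883.Sub.mem_perp] at hxperp
  push Not at hxperp
  obtain ⟨y, hyS, hy⟩ := hxperp
  set x : V := (x' : V) with hxdef
  have hx1 : ∀ i, polar Q (s i) x = 0 := fun i =>
    Cfsg.Agent.H883.Sub.mem_perp.1 x'.2 _ (Submodule.subset_span ⟨i, rfl⟩)
  have hy1 : ∀ i, polar Q (s i) y = 0 := fun i =>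
    Cfsg.Agent.H883.Sub.mem_perp.1 hyS _ (Submodule.subset_span ⟨i, rfl⟩)
  have hx' : Q x = 0 := hx
  have hxy : polar Q x y ≠ 0 := by rwa [polar_comm] at hy
  set d := (polar Q x y)⁻¹ with hd
  have hxz : polar Q x (d • y) = 1 := by
    rw [polar_smul_right, smul_eq_mul, hd, inv_mul_cancel₀ hxy]
  refine ⟨x, d • y + (-Q (d • y)) • x, ⟨hx', ?_, ?_⟩, hx1, fun i => ?_⟩
  · rw [Q_add, QuadraticMap.map_smul Q (-Q (d • y)), hx', polar_smul_right,
      polar_comm Q (d • y) x, hxz]
    simp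
  · rw [polar_add_right, hxz, polar_smul_right, polar_self_of_sing hx']
    simp
  · rw [polar_add_right, polar_smul_right, polar_smul_right, hx1, hy1]
    simp

end General

variable {F V : Type*} [Field F] [AddCommGroup V] [Module F V] {ι : Type*}
variable {b : Module.Basis ι F V} {F₀ : Subfield F} {Q : QuadraticForm F V}

/-- The form on the rational vectors. -/
def qf0 (Q : QuadraticForm F V) (b : Module.Basis ι F V) (F₀ : Subfield F) (hR : IsRat Q b F₀) :
    QuadraticForm F₀ (rat b F₀) where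
  toFun v := ⟨Q v, hR v v.2⟩
  toFun_smul c v := by
    apply Subtype.ext
    show Q ((c : F) • (v : V)) = _
    rw [QuadraticMap.map_smul]
    rfl
  exists_companion' := by
    refine ⟨LinearMap.mk₂ F₀ (fun u v => ⟨polar Q (u : V) (v : V), hR.polar u.2 v.2⟩) ?_ ?_ ?_ ?_, ?_⟩
    · intro u u' v
      exact Subtype.ext (polar_add_left Q (u : V) (u' : V) (v : V))
    · intro c u v
      exact Subtype.ext (polar_smul_left Q (c : F) (u : V) (v : V))
    · intro u v v'
      exact Subtype.ext (polar_add_right Q (u : V) (v : V) (v' : V))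
    · intro c u v
      exact Subtype.ext (polar_smul_right Q (c : F) (u : V) (v : V))
    · intro x y
      apply Subtype.ext
      exact Q_add (x : V) (y : V)

theorem qf0_apply (hR : IsRat Q b F₀) (v : rat b F₀) : ((qf0 Q b F₀ hR v : F₀) : F) = Q (v : V) := rfl

theorem polar_qf0 (hR : IsRat Q b F₀) (u v : rat b F₀) :
    ((polar (qf0 Q b F₀ hR) u v : F₀) : F) = polar Q (u : V) (v : V) := rfl

theorem hyp_qf0 {hR : IsRat Q b F₀} {u v : rat b F₀} :
    Hyp (qf0 Q b F₀ hR) u v ↔ Hyp Q (u : V) (v : V) := by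
  constructor
  · intro h
    refine ⟨?_, ?_, ?_⟩
    · rw [← qf0_apply hR u, h.left]; rfl
    · rw [← qf0_apply hR v, h.right]; rfl
    · rw [← polar_qf0 hR, h.pair]; rfl
  · intro h
    exact ⟨Subtype.ext h.left, Subtype.ext h.right, Subtype.ext h.pair⟩

theorem nondeg_qf0 (hQ : Nondeg Q) (hR : IsRat Q b F₀) : Nondeg (qf0 Q b F₀ hR) := by
  intro x hx
  apply Subtype.ext
  apply eq_zero_of_perp hQ (b := b) (F₀ := F₀)
  intro u hu
  have := hx ⟨u, hu⟩
  exact congrArg (fun z : F₀ => (z : F)) this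

theorem finrank_rat [Fintype ι] : Module.finrank F₀ (rat b F₀) = Fintype.card ι := by
  let f : (rat b F₀) ≃ₗ[F₀] (ι → F₀) :=
    { toFun := fun v i => ⟨b.repr (v : V) i, v.2 i⟩
      map_add' := fun u v => by
        funext i
        apply Subtype.ext
        simp
      map_smul' := fun c v => by
        funext i
        apply Subtype.ext
        show b.repr ((c : F) • (v : V)) i = (c : F) * b.repr (v : V) i
        rw [map_smul, Finsupp.smul_apply, smul_eq_mul]
      invFun := fun x => ⟨∑ i, (x i : F) • b i,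
        Submodule.sum_mem _ fun i _ => rat_smul (x i).2 (basis_mem i)⟩
      left_inv := fun v => by
        apply Subtype.ext
        exact b.sum_repr (v : V)
      right_inv := fun x => by
        funext i
        apply Subtype.ext
        show b.repr (∑ j, (x j : F) • b j) i = x i
        rw [b.repr_sum_self] }
  rw [f.finrank_eq, Module.finrank_fintype_fun_eq_card]

/-- Rational hyperbolic pairs orthogonal to `m` rational vectors. -/
theorem exists_hyp_rat [Fintype ι] [Finite F] (hQ : Nondeg Q) (hR : IsRat Q b F₀) {m : ℕ}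
    (s : Fin m → V) (hs : ∀ i, s i ∈ rat b F₀) (hm : 2 * m + 3 ≤ Fintype.card ι) :
    ∃ x ∈ rat b F₀, ∃ y ∈ rat b F₀, Hyp Q x y ∧ (∀ i, polar Q (s i) x = 0) ∧
      (∀ i, polar Q (s i) y = 0) := by
  obtain ⟨x, y, hxy, hx, hy⟩ := exists_hyp_orth (nondeg_qf0 hQ hR)
    (fun i => (⟨s i, hs i⟩ : rat b F₀)) (by rw [finrank_rat]; exact hm)
  refine ⟨x, x.2, y, y.2, hyp_qf0.1 hxy, fun i => ?_, fun i => ?_⟩
  · have := hx i
    exact congrArg (fun z : F₀ => (z : F)) this
  · have := hy i
    exact congrArg (fun z : F₀ => (z : F)) this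

/-- A rational partner of a rational singular vector, orthogonal to nothing. -/
theorem exists_partner_rat (hQ : Nondeg Q) (hR : IsRat Q b F₀) {x : V} (hx : x ∈ rat b F₀)
    (hsx : Q x = 0) (h0 : x ≠ 0) : ∃ y ∈ rat b F₀, Hyp Q x y := by
  have h1 : qf0 Q b F₀ hR ⟨x, hx⟩ = 0 := Subtype.ext hsx
  obtain ⟨y, hy⟩ := exists_hyp (nondeg_qf0 hQ hR) h1 (fun h => h0 (congrArg Subtype.val h))
  exact ⟨y, y.2, hyp_qf0.1 hy⟩

theorem good_qf0 [Fintype ι] [Finite F] (hQ : Nondeg Q) (hR : IsRat Q b F₀)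
    (hd : 5 ≤ Fintype.card ι) : Good (qf0 Q b F₀ hR) :=
  good_of_finite (nondeg_qf0 hQ hR) (by rw [finrank_rat]; exact hd)

/-- `H` contains all rational Siegel transformations. -/
def HasRat (Q : QuadraticForm F V) (b : Module.Basis ι F V) (F₀ : Subfield F)
    (H : Subgroup (V ≃ₗ[F] V)) : Prop :=
  ∀ u ∈ rat b F₀, ∀ w ∈ rat b F₀, Q u = 0 → polar Q u w = 0 → Has Q H u w

theorem siegel_rat (hR : IsRat Q b F₀) {u w : V} (hu : Q u = 0) (hw : polar Q u w = 0)
    (huR : u ∈ rat b F₀) (hwR : w ∈ rat b F₀) {v : V} (hv : v ∈ rat b F₀) :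
    siegel Q u w hu hw v ∈ rat b F₀ := by
  rw [siegel_apply]
  refine (rat b F₀).sub_mem ((rat b F₀).sub_mem ((rat b F₀).add_mem hv
    (rat_smul (hR.polar huR hv) hwR)) (rat_smul (hR.polar hwR hv) huR)) (rat_smul ?_ huR)
  exact F₀.mul_mem (hR _ hwR) (hR.polar huR hv)

/-- Elements of `E` of the rational form lift. -/
theorem exists_lift_rat (hR : IsRat Q b F₀) {H : Subgroup (V ≃ₗ[F] V)} (hH : HasRat Q b F₀ H)
    {g₀ : (rat b F₀) ≃ₗ[F₀] (rat b F₀)} (hg : g₀ ∈ E (qf0 Q b F₀ hR)) :
    ∃ g ∈ H ⊓ E Q, ∀ v : rat b F₀, g (v : V) = (g₀ v : V) := by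
  induction hg using Subgroup.closure_induction with
  | mem x hx =>
    obtain ⟨u, w, hu, hw, rfl⟩ := hx
    have hu' : Q (u : V) = 0 := congrArg (fun z : F₀ => (z : F)) hu
    have hw' : polar Q (u : V) (w : V) = 0 := congrArg (fun z : F₀ => (z : F)) hw
    refine ⟨siegel Q (u : V) (w : V) hu' hw', ⟨(hH u u.2 w w.2 hu' hw').mem hu' hw',
      siegel_mem_E _ _⟩, fun v => ?_⟩
    rw [siegel_apply, siegel_apply]
    rfl
  | one => exact ⟨1, Subgroup.one_mem _, fun v => rfl⟩
  | mul x y _ _ hx hy =>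
    obtain ⟨g, hg, hgx⟩ := hx
    obtain ⟨k, hk, hky⟩ := hy
    refine ⟨g * k, Subgroup.mul_mem _ hg hk, fun v => ?_⟩
    show g (k (v : V)) = ((x (y v) : rat b F₀) : V)
    rw [hky, hgx]
  | inv x _ hx =>
    obtain ⟨g, hg, hgx⟩ := hx
    refine ⟨g⁻¹, Subgroup.inv_mem _ hg, fun v => ?_⟩
    have h1 : g ((x⁻¹ v : rat b F₀) : V) = (v : V) := by
      rw [hgx]
      exact congrArg Subtype.val (LinearEquiv.apply_symm_apply x v)
    rw [← h1]
    exact LinearEquiv.symm_apply_apply g _

/-- **Transitivity on rational singular vectors.** -/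
theorem trans_rat [Fintype ι] [Finite F] (hQ : Nondeg Q) (hR : IsRat Q b F₀)
    (hd : 5 ≤ Fintype.card ι) {H : Subgroup (V ≃ₗ[F] V)} (hH : HasRat Q b F₀ H) {x x' : V}
    (hx : x ∈ rat b F₀) (hx' : x' ∈ rat b F₀) (hsx : Q x = 0) (hsx' : Q x' = 0) (h0 : x ≠ 0)
    (h0' : x' ≠ 0) : ∃ g ∈ H ⊓ E Q, g x = x' ∧ ∀ v ∈ rat b F₀, g v ∈ rat b F₀ := by
  have h1 : qf0 Q b F₀ hR ⟨x, hx⟩ = 0 := Subtype.ext hsx
  have h2 : qf0 Q b F₀ hR ⟨x', hx'⟩ = 0 := Subtype.ext hsx'
  obtain ⟨g₀, hg₀, hgx⟩ := (good_qf0 hQ hR hd).trans_sing h1 h2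
    (fun h => h0 (congrArg Subtype.val h)) (fun h => h0' (congrArg Subtype.val h))
  obtain ⟨g, hg, hgv⟩ := exists_lift_rat hR hH hg₀
  refine ⟨g, hg, ?_, fun v hv => ?_⟩
  · rw [hgv ⟨x, hx⟩, hgx]
  · rw [hgv ⟨v, hv⟩]
    exact Subtype.coe_prop _

end Cfsg.Agent.H888.Rat
end

-- part: H888/FieldDich
section
/-!
Intermediate subrings of a finite field extension of prime degree.
-/

set_option autoImplicit false

namespace Cfsg.Agent.H888.FieldDich

variable {F : Type*} [Field F] [Finite F]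

/-- **No intermediate rings in an extension of prime degree of finite fields.** -/
theorem dichotomy (F₀ : Subfield F) {r : ℕ} (hr : r.Prime)
    (hcard : Nat.card F = Nat.card F₀ ^ r) (A : Set F) (h0 : ∀ c ∈ F₀, c ∈ A)
    (hadd : ∀ c ∈ A, ∀ d ∈ A, c + d ∈ A) (hmul : ∀ c ∈ A, ∀ d ∈ A, c * d ∈ A) :
    (∀ c ∈ A, c ∈ F₀) ∨ (∀ c : F, c ∈ A) := by
  have hone : (1 : F) ∈ A := h0 _ F₀.one_mem
  have hpow : ∀ (c : F), c ∈ A → ∀ n : ℕ, c ^ n ∈ A := by
    intro c hc n
    induction n with
    | zero => simpa using hone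
    | succ n ih => rw [pow_succ]; exact hmul _ ih _ hc
  have := Fintype.ofFinite F
  let K : Subfield F :=
    { carrier := A
      mul_mem' := fun {c d} hc hd => hmul c hc d hd
      one_mem' := hone
      add_mem' := fun {c d} hc hd => hadd c hc d hd
      zero_mem' := h0 _ F₀.zero_mem
      neg_mem' := fun {c} hc => by
        have h1 : (-1 : F) * c ∈ A := hmul _ (h0 _ (F₀.neg_mem F₀.one_mem)) _ hc
        rwa [neg_one_mul] at h1
      inv_mem' := fun c hc => by
        by_cases hc0 : c = 0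
        · rw [hc0, inv_zero]; exact h0 _ F₀.zero_mem
        have h1 : c ^ (Fintype.card F - 1) = 1 := FiniteField.pow_card_sub_one_eq_one c hc0
        have h2 : 2 ≤ Fintype.card F := Fintype.one_lt_card
        have h3 : c⁻¹ = c ^ (Fintype.card F - 2) := by
          rw [inv_eq_iff_eq_inv]
          apply eq_inv_of_mul_eq_one_left
          rw [← pow_succ', show Fintype.card F - 2 + 1 = Fintype.card F - 1 by omega, h1]
        rw [h3]
        exact hpow c hc _ }
  have hle : F₀ ≤ K := h0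
  let _ : Algebra F₀ K := (Subfield.inclusion hle).toAlgebra
  have c1 : Nat.card K = Nat.card F₀ ^ Module.finrank F₀ K := Module.natCard_eq_pow_finrank
  have c2 : Nat.card F = Nat.card K ^ Module.finrank K F := Module.natCard_eq_pow_finrank
  have hq : 1 < Nat.card F₀ := Finite.one_lt_card
  have h5 : Module.finrank F₀ K * Module.finrank K F = r := by
    rw [c1, ← pow_mul, hcard] at c2
    exact (Nat.pow_right_injective hq c2).symm
  rcases (Nat.dvd_prime hr).1 (Dvd.intro _ h5) with h | h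
  · left
    rw [h, pow_one] at c1
    intro c hc
    have h6 : (F₀ : Set F) = (K : Set F) := by
      apply Set.eq_of_subset_of_ncard_le hle
      show Nat.card K ≤ Nat.card F₀
      exact c1.le
    have h7 : c ∈ (K : Set F) := hc
    rw [← h6] at h7
    exact h7
  · right
    rw [h] at h5 c1
    have h8 : Module.finrank K F = 1 := by
      have := hr.pos
      nlinarith
    rw [h8, pow_one] at c2
    intro c
    have h6 : (K : Set F) = Set.univ := by
      apply Set.eq_of_subset_of_ncard_le (Set.subset_univ _)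
      rw [Set.ncard_univ]
      show Nat.card F ≤ Nat.card K
      exact c2.le
    have h7 : c ∈ (K : Set F) := by rw [h6]; trivial
    exact h7

/-- If `c² ∈ F₀` then `c ∈ F₀`, or `F = F₀ + F₀ c`. -/
theorem sq_mem (F₀ : Subfield F) {r : ℕ} (hr : r.Prime)
    (hcard : Nat.card F = Nat.card F₀ ^ r) {c : F} (hc : c ^ 2 ∈ F₀) :
    c ∈ F₀ ∨ ∀ d : F, ∃ x ∈ F₀, ∃ y ∈ F₀, d = x + y * c := by
  have key := dichotomy F₀ hr hcard {d | ∃ x ∈ F₀, ∃ y ∈ F₀, d = x + y * c}
    (fun d hd => ⟨d, hd, 0, F₀.zero_mem, by ring⟩)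
    (by
      rintro _ ⟨x, hx, y, hy, rfl⟩ _ ⟨x', hx', y', hy', rfl⟩
      exact ⟨x + x', F₀.add_mem hx hx', y + y', F₀.add_mem hy hy', by ring⟩)
    (by
      rintro _ ⟨x, hx, y, hy, rfl⟩ _ ⟨x', hx', y', hy', rfl⟩
      exact ⟨x * x' + y * y' * c ^ 2,
        F₀.add_mem (F₀.mul_mem hx hx') (F₀.mul_mem (F₀.mul_mem hy hy') hc), x * y' + y * x',
        F₀.add_mem (F₀.mul_mem hx hy') (F₀.mul_mem hy hx'), by ring⟩)
  rcases key with h | h
  · left
    exact h c ⟨0, F₀.zero_mem, 1, F₀.one_mem, by ring⟩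
  · right
    exact h

/-- `p`-th roots of elements of `F₀` lie in `F₀`. -/
theorem mem_of_pow_mem (F₀ : Subfield F) {p : ℕ} [Fact p.Prime] [CharP F p] {c : F}
    (hc : c ^ p ∈ F₀) : c ∈ F₀ := by
  have : CharP F₀ p := inferInstance
  have hsurj : Function.Surjective (frobenius F₀ p) :=
    Finite.surjective_of_injective (frobenius_inj F₀ p)
  obtain ⟨d, hd⟩ := hsurj ⟨c ^ p, hc⟩
  have h1 : (d : F) ^ p = c ^ p := by
    have := congrArg (fun z : F₀ => (z : F)) hd
    simpa [frobenius_def] using this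
  have h2 : (frobenius F p) (d : F) = frobenius F p c := by
    rw [frobenius_def, frobenius_def, h1]
  have h3 := frobenius_inj F p h2
  rw [← h3]
  exact d.2

end Cfsg.Agent.H888.FieldDich
end

-- part: H888/Thin
section
/-!
First dichotomy for a group `H` containing the rational Siegel transformations: either every Siegel
transformation of `H` at a rational singular vector is rational, or `E Q ≤ H`.
-/

set_option autoImplicit false

namespace Cfsg.Agent.H888.Rat

open QuadraticMap hiding proj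
open Cfsg.Agent.LieClassical.OrthCore Cfsg.Agent.LieClassical.OrthTrans
  Cfsg.Agent.LieClassical.OrthFinite Cfsg.Agent.H883.Root

variable {F V : Type*} [Field F] [AddCommGroup V] [Module F V] {ι : Type*} [Fintype ι]
variable {b : Module.Basis ι F V} {F₀ : Subfield F} {Q : QuadraticForm F V}
variable {H : Subgroup (V ≃ₗ[F] V)}

omit [Fintype ι] in
theorem proj_rat (hR : IsRat Q b F₀) {u v t : V} (hu : u ∈ rat b F₀) (hv : v ∈ rat b F₀)
    (ht : t ∈ rat b F₀) : proj Q u v t ∈ rat b F₀ :=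
  (rat b F₀).sub_mem ((rat b F₀).sub_mem ht (rat_smul (hR.polar hv ht) hu))
    (rat_smul (hR.polar hu ht) hv)

/-- Rational vectors orthogonal to a rational hyperbolic pair are sums of singular ones. -/
theorem rat_sing_induction [Finite F] (hQ : Nondeg Q) (hR : IsRat Q b F₀)
    (hn : 7 ≤ Fintype.card ι) {u v : V} (hu : u ∈ rat b F₀) (hv : v ∈ rat b F₀)
    {P : V → Prop} (hadd : ∀ a c, P a → P c → P (a + c))
    (hsing : ∀ a ∈ rat b F₀, Q a = 0 → polar Q u a = 0 → polar Q v a = 0 → P a) {x : V}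
    (hx : x ∈ rat b F₀) (hux : polar Q u x = 0) (hvx : polar Q v x = 0) : P x := by
  obtain ⟨e, he, f, hf, hef, h1, h2⟩ := exists_hyp_rat hQ hR ![u, v]
    (by intro i; fin_cases i <;> assumption) (by omega)
  have key := sing_induction_perp (Q := qf0 Q b F₀ hR) (x := ⟨e, he⟩) (y := ⟨f, hf⟩)
    (z := ⟨u, hu⟩) (w := ⟨v, hv⟩) (hyp_qf0.2 hef) (Subtype.ext (h1 0)) (Subtype.ext (h2 0))
    (Subtype.ext (h1 1)) (Subtype.ext (h2 1)) (P := fun t => P (t : V))
    (fun a c _ _ _ _ ha hc => hadd _ _ ha hc)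
    (fun a ha h3 h4 => hsing _ a.2 (congrArg Subtype.val ha) (congrArg Subtype.val h3)
      (congrArg Subtype.val h4)) ⟨x, hx⟩ (Subtype.ext hux) (Subtype.ext hvx)
  exact key

/-- Every Siegel transformation of `H` at a rational vector is rational modulo that vector. -/
def Thin (Q : QuadraticForm F V) (b : Module.Basis ι F V) (F₀ : Subfield F)
    (H : Subgroup (V ≃ₗ[F] V)) : Prop :=
  ∀ u ∈ rat b F₀, u ≠ 0 → ∀ w, Has Q H u w → ∃ w₀ ∈ rat b F₀, ∃ c : F, w = w₀ + c • u

/-- Step 1: a bad Siegel transformation pairs irrationally with some rational singular vector. -/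
theorem exists_irrational [Finite F] (hQ : Nondeg Q) (hR : IsRat Q b F₀)
    (hn : 7 ≤ Fintype.card ι) {u w : V} (hu : u ∈ rat b F₀) (hu0 : u ≠ 0) (hsu : Q u = 0)
    (huw : polar Q u w = 0) (hbad : ¬ ∃ w₀ ∈ rat b F₀, ∃ c : F, w = w₀ + c • u) :
    ∃ e ∈ rat b F₀, Q e = 0 ∧ polar Q u e = 0 ∧ polar Q e w ∉ F₀ := by
  by_contra hcon
  push Not at hcon
  obtain ⟨v, hv, huv⟩ := exists_partner_rat hQ hR hu hsu hu0
  apply hbad
  refine ⟨w - polar Q v w • u, ?_, polar Q v w, by module⟩
  apply mem_rat_of_polar hQ hR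
  intro t ht
  have hux : polar Q u (proj Q u v t) = 0 := polar_proj_left huv t
  have hvx : polar Q v (proj Q u v t) = 0 := polar_proj_right huv t
  have h1 : polar Q (proj Q u v t) w ∈ F₀ := by
    refine rat_sing_induction hQ hR hn hu hv (P := fun x => polar Q x w ∈ F₀) ?_ ?_
      (proj_rat hR hu hv ht) hux hvx
    · intro a c ha hc
      show polar Q (a + c) w ∈ F₀
      rw [polar_add_left]
      exact F₀.add_mem ha hc
    · intro a ha hsa hua _
      exact hcon a ha hsa hua
  have h2 : polar Q t (w - polar Q v w • u) = polar Q (proj Q u v t) w := by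
    rw [polar_sub_right, polar_smul_right, proj, polar_sub_left, polar_sub_left, polar_smul_left,
      polar_smul_left, huw, polar_comm Q t u]
    simp only [smul_eq_mul]
    ring
  rw [h2]
  exact h1

omit [Fintype ι] in
/-- A partner of a rational singular vector orthogonal to a rational hyperbolic pair. -/
theorem exists_partner_rat_perp (hQ : Nondeg Q) (hR : IsRat Q b F₀) {u v x : V}
    (hu : u ∈ rat b F₀) (hv : v ∈ rat b F₀) (huv : Hyp Q u v) (hx : x ∈ rat b F₀)
    (hsx : Q x = 0) (h0 : x ≠ 0) (hux : polar Q u x = 0) (hvx : polar Q v x = 0) :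
    ∃ y ∈ rat b F₀, Hyp Q x y ∧ polar Q u y = 0 ∧ polar Q v y = 0 := by
  have h1 : qf0 Q b F₀ hR ⟨x, hx⟩ = 0 := Subtype.ext hsx
  have h2 : Hyp (qf0 Q b F₀ hR) ⟨u, hu⟩ ⟨v, hv⟩ := hyp_qf0.2 huv
  obtain ⟨y, hy, hy1, hy2⟩ := exists_hyp_perp (nondeg_qf0 hQ hR) h2 h1
    (fun h => h0 (congrArg Subtype.val h)) (Subtype.ext hux) (Subtype.ext hvx)
  exact ⟨y, y.2, hyp_qf0.1 hy, congrArg Subtype.val hy1, congrArg Subtype.val hy2⟩

/-- A third rational hyperbolic pair, dimension at least seven. -/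
theorem exists_hyp_rat_perp2 [Finite F] (hQ : Nondeg Q) (hR : IsRat Q b F₀)
    (hn : 7 ≤ Fintype.card ι) {u v e f : V}
    (hu : u ∈ rat b F₀) (hv : v ∈ rat b F₀) (huv : Hyp Q u v)
    (he : e ∈ rat b F₀) (hf : f ∈ rat b F₀) (hef : Hyp Q e f) (hue : polar Q u e = 0)
    (huf : polar Q u f = 0) (hve : polar Q v e = 0) (hvf : polar Q v f = 0) :
    ∃ x ∈ rat b F₀, ∃ y ∈ rat b F₀, Hyp Q x y ∧ (polar Q u x = 0 ∧ polar Q v x = 0 ∧
      polar Q e x = 0 ∧ polar Q f x = 0) ∧ (polar Q u y = 0 ∧ polar Q v y = 0 ∧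
      polar Q e y = 0 ∧ polar Q f y = 0) := by
  set Q₀ := qf0 Q b F₀ hR with hQ₀
  obtain ⟨x, hx0, hx, hxp⟩ := exists_sing_perp (Q := Q₀)
    ![(⟨u, hu⟩ : rat b F₀), ⟨v, hv⟩, ⟨e, he⟩, ⟨f, hf⟩] (by rw [finrank_rat]; omega)
  have h1 : polar Q₀ (⟨u, hu⟩ : rat b F₀) x = 0 := hxp 0
  have h2 : polar Q₀ (⟨v, hv⟩ : rat b F₀) x = 0 := hxp 1
  have h3 : polar Q₀ (⟨e, he⟩ : rat b F₀) x = 0 := hxp 2
  have h4 : polar Q₀ (⟨f, hf⟩ : rat b F₀) x = 0 := hxp 3
  have huv' : Hyp Q₀ ⟨u, hu⟩ ⟨v, hv⟩ := hyp_qf0.2 huv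
  have hef' : Hyp Q₀ ⟨e, he⟩ ⟨f, hf⟩ := hyp_qf0.2 hef
  obtain ⟨c, hc⟩ := (nondeg_qf0 hQ hR).exists_polar_eq hx0 1
  set y := Cfsg.Agent.LieClassical.OrthTrans.proj Q₀ ⟨u, hu⟩ ⟨v, hv⟩
    (Cfsg.Agent.LieClassical.OrthTrans.proj Q₀ ⟨e, he⟩ ⟨f, hf⟩ c) with hy
  have a1 : polar Q₀ (⟨u, hu⟩ : rat b F₀) y = 0 := polar_proj_left huv' _
  have a2 : polar Q₀ (⟨v, hv⟩ : rat b F₀) y = 0 := polar_proj_right huv' _
  have p1 : polar Q₀ (⟨u, hu⟩ : rat b F₀) ⟨e, he⟩ = 0 := Subtype.ext hue
  have p2 : polar Q₀ (⟨v, hv⟩ : rat b F₀) ⟨e, he⟩ = 0 := Subtype.ext hve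
  have p3 : polar Q₀ (⟨u, hu⟩ : rat b F₀) ⟨f, hf⟩ = 0 := Subtype.ext huf
  have p4 : polar Q₀ (⟨v, hv⟩ : rat b F₀) ⟨f, hf⟩ = 0 := Subtype.ext hvf
  have a3 : polar Q₀ (⟨e, he⟩ : rat b F₀) y = 0 := by
    rw [hy, polar_proj_of_perp p1 p2, polar_proj_left hef']
  have a4 : polar Q₀ (⟨f, hf⟩ : rat b F₀) y = 0 := by
    rw [hy, polar_proj_of_perp p3 p4, polar_proj_right hef']
  have a5 : polar Q₀ x y = 1 := by
    rw [hy, polar_proj_of_perp h1 h2, polar_proj_of_perp h3 h4]
    exact hc
  set z := y + (-Q₀ y) • x with hz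
  have hxz : Hyp Q₀ x z := by
    refine ⟨hx, ?_, ?_⟩
    · rw [hz, Q_add, QuadraticMap.map_smul, hx, polar_smul_right, polar_comm Q₀ y x, a5]
      simp
    · rw [hz, polar_add_right, polar_smul_right, polar_self_of_sing hx, a5]
      simp
  have hb : ∀ {t : rat b F₀}, polar Q₀ t x = 0 → polar Q₀ t y = 0 → polar Q₀ t z = 0 := by
    intro t h5 h6
    rw [hz, polar_add_right, polar_smul_right, h5, h6]
    simp
  exact ⟨x, x.2, z, z.2, hyp_qf0.1 hxz, ⟨congrArg Subtype.val h1, congrArg Subtype.val h2,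
    congrArg Subtype.val h3, congrArg Subtype.val h4⟩, ⟨congrArg Subtype.val (hb h1 a1),
    congrArg Subtype.val (hb h2 a2), congrArg Subtype.val (hb h3 a3),
    congrArg Subtype.val (hb h4 a4)⟩⟩

/-- Step 2: `H` contains `siegel u (c e)` with `c ∉ F₀` and `e` rational. -/
theorem exists_irrational_root [Finite F] (hQ : Nondeg Q) (hR : IsRat Q b F₀)
    (hn : 7 ≤ Fintype.card ι) (hH : HasRat Q b F₀ H) {u w : V} (hu : u ∈ rat b F₀)
    (hu0 : u ≠ 0) (hw : Has Q H u w)
    (hbad : ¬ ∃ w₀ ∈ rat b F₀, ∃ c : F, w = w₀ + c • u) :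
    ∃ c : F, c ∉ F₀ ∧ ∃ v ∈ rat b F₀, ∃ e ∈ rat b F₀, Hyp Q u v ∧ e ≠ 0 ∧
      polar Q u e = 0 ∧ polar Q v e = 0 ∧ Q e = 0 ∧ Has Q H u (c • e) := by
  obtain ⟨e₀, he₀, hs₀, hue₀, hc₀⟩ :=
    exists_irrational hQ hR (by omega) hu hu0 hw.sing hw.perp hbad
  obtain ⟨v, hv, huv⟩ := exists_partner_rat hQ hR hu hw.sing hu0
  set e₁ := e₀ - polar Q v e₀ • u with he₁def
  have he₁ : e₁ ∈ rat b F₀ := (rat b F₀).sub_mem he₀ (rat_smul (hR.polar hv he₀) hu)
  have hs₁ : Q e₁ = 0 := by
    rw [he₁def, sub_eq_add_neg, ← neg_smul, Q_add, QuadraticMap.map_smul, hs₀, huv.left,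
      polar_smul_right, polar_comm Q e₀ u, hue₀]
    simp
  have hue₁ : polar Q u e₁ = 0 := by
    rw [he₁def, polar_sub_right, polar_smul_right, hue₀, huv.polar_left]
    simp
  have hve₁ : polar Q v e₁ = 0 := by
    rw [he₁def, polar_sub_right, polar_smul_right, huv.pair']
    simp
  have hw₁ : polar Q e₁ w = polar Q e₀ w := by
    rw [he₁def, polar_sub_left, polar_smul_left, hw.perp]
    simp
  rw [← hw₁] at hc₀
  have he₁0 : e₁ ≠ 0 := by
    intro h
    rw [h, polar_zero_left] at hc₀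
    exact hc₀ F₀.zero_mem
  obtain ⟨f₁, hf₁, h₁, huf₁, hvf₁⟩ := exists_partner_rat_perp hQ hR hu hv huv he₁ hs₁ he₁0 hue₁ hve₁
  obtain ⟨e₂, he₂, f₂, hf₂, h₂, ⟨hue₂, -, h12, -⟩, ⟨huf₂, -, h1f2, -⟩⟩ :=
    exists_hyp_rat_perp2 hQ hR hn hu hv huv he₁ hf₁ h₁ hue₁ huf₁ hve₁ hvf₁
  refine ⟨polar Q e₁ w, hc₀, v, hv, e₁, he₁, huv, he₁0, hue₁, hve₁, hs₁, ?_⟩
  have hA : Has Q H e₁ e₂ := hH _ he₁ _ he₂ hs₁ h12
  have hB := hA.comm hw (by rw [polar_comm]; exact hue₁) (by rw [polar_comm]; exact hue₂)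
  rw [h₂.left, zero_mul, add_zero] at hB
  have hC : Has Q H f₂ e₁ := hH _ hf₂ _ he₁ h₂.right (by rw [polar_comm]; exact h1f2)
  have hD := hC.comm hB (by rw [polar_comm]; exact huf₂) (by rw [polar_comm]; exact hue₁)
  have e1 : polar Q f₂ (polar Q e₁ w • e₂ - polar Q e₂ w • e₁) = polar Q e₁ w := by
    rw [polar_sub_right, polar_smul_right, polar_smul_right, h₂.pair', polar_comm Q f₂ e₁, h1f2]
    simp
  have e2 : polar Q e₁ (polar Q e₁ w • e₂ - polar Q e₂ w • e₁) = 0 := by
    rw [polar_sub_right, polar_smul_right, polar_smul_right, h12, polar_self_of_sing hs₁]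
    simp
  rw [e1, e2, hs₁, zero_mul, add_zero, zero_smul, sub_zero] at hD
  exact hD

/-- The multipliers of rational roots contained in `H`. -/
def mult (Q : QuadraticForm F V) (b : Module.Basis ι F V) (F₀ : Subfield F)
    (H : Subgroup (V ≃ₗ[F] V)) : Set F :=
  {c | ∀ x ∈ rat b F₀, ∀ y ∈ rat b F₀, Q x = 0 → Q y = 0 → polar Q x y = 0 → Has Q H x (c • y)}

/-- Transitivity on rational singular vectors orthogonal to a rational hyperbolic pair, fixing the pair. -/
theorem trans_rat_perp [Finite F] (hQ : Nondeg Q) (hR : IsRat Q b F₀)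
    (hn : 7 ≤ Fintype.card ι) (hH : HasRat Q b F₀ H) {u v x y : V} (hu : u ∈ rat b F₀)
    (hv : v ∈ rat b F₀) (huv : Hyp Q u v) (hx : x ∈ rat b F₀) (hy : y ∈ rat b F₀)
    (hsx : Q x = 0) (hsy : Q y = 0) (hx0 : x ≠ 0) (hy0 : y ≠ 0) (hux : polar Q u x = 0)
    (hvx : polar Q v x = 0) (huy : polar Q u y = 0) (hvy : polar Q v y = 0) :
    ∃ g ∈ H ⊓ E Q, g u = u ∧ g x = y := by
  set Q₀ := qf0 Q b F₀ hR with hQ₀
  have hfin : Module.finrank F₀ (rat b F₀) = Fintype.card ι := finrank_rat
  have : Module.Finite F₀ (rat b F₀) := Module.finite_of_finrank_pos (by omega)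
  set W : Submodule F₀ (rat b F₀) := Submodule.span F₀ {(⟨u, hu⟩ : rat b F₀), ⟨v, hv⟩} with hW
  have huv' : Hyp Q₀ ⟨u, hu⟩ ⟨v, hv⟩ := hyp_qf0.2 huv
  have hnd : Cfsg.Agent.H883.Sub.NondegOn Q₀ W := by
    intro z hz hz'
    obtain ⟨s, t, rfl⟩ := Submodule.mem_span_pair.1 hz
    have h1 := hz' ⟨v, hv⟩ (Submodule.subset_span (by simp))
    have h2 := hz' ⟨u, hu⟩ (Submodule.subset_span (by simp))
    rw [polar_add_left, polar_smul_left, polar_smul_left, huv'.pair, huv'.polar_right] at h1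
    rw [polar_add_left, polar_smul_left, polar_smul_left, huv'.pair', huv'.polar_left] at h2
    simp only [smul_eq_mul, mul_one, mul_zero, add_zero, zero_add] at h1 h2
    rw [h1, h2, zero_smul, zero_smul, add_zero]
  have hWr : Module.finrank F₀ W ≤ 2 := by
    classical
    have h := finrank_span_finset_le_card (R := F₀)
      ({(⟨u, hu⟩ : rat b F₀), ⟨v, hv⟩} : Finset (rat b F₀))
    rw [Finset.coe_pair] at h
    exact h.trans Finset.card_le_two
  have hperp := Cfsg.Agent.H883.Sub.finrank_perp (nondeg_qf0 hQ hR) W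
  have hG := Cfsg.Agent.H883.Sub.good_res (hnd.perp (nondeg_qf0 hQ hR)) (by omega)
  have hmem : ∀ {z : V} (hz : z ∈ rat b F₀), polar Q u z = 0 → polar Q v z = 0 →
      (⟨z, hz⟩ : rat b F₀) ∈ Cfsg.Agent.H883.Sub.perp Q₀ W := by
    intro z hz h1 h2
    rw [Cfsg.Agent.H883.Sub.mem_perp]
    intro w hw
    obtain ⟨s, t, rfl⟩ := Submodule.mem_span_pair.1 hw
    have h1' : polar Q₀ (⟨u, hu⟩ : rat b F₀) ⟨z, hz⟩ = 0 := Subtype.ext h1
    have h2' : polar Q₀ (⟨v, hv⟩ : rat b F₀) ⟨z, hz⟩ = 0 := Subtype.ext h2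
    rw [polar_add_left, polar_smul_left, polar_smul_left, h1', h2']
    simp
  obtain ⟨g, hg, hgx⟩ := Cfsg.Agent.H883.Sub.EY_trans_sing hG (hmem hx hux hvx) (hmem hy huy hvy)
    (Subtype.ext hsx : Q₀ ⟨x, hx⟩ = 0) (Subtype.ext hsy : Q₀ ⟨y, hy⟩ = 0)
    (fun h => hx0 (congrArg Subtype.val h)) (fun h => hy0 (congrArg Subtype.val h))
  obtain ⟨g', hg', e'⟩ := exists_lift_rat hR hH (Cfsg.Agent.H883.Sub.EY_le_E hg)
  refine ⟨g', hg', ?_, ?_⟩
  · rw [e' ⟨u, hu⟩, Cfsg.Agent.H883.Sub.EY_fix hg]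
    intro w hw
    rw [polar_comm]
    exact Cfsg.Agent.H883.Sub.mem_perp.1 hw ⟨u, hu⟩ (Submodule.subset_span (by simp))
  · rw [e' ⟨x, hx⟩, hgx]

/-- Step 3: transfer of a multiplier from one root to all roots. -/
theorem mem_mult [Finite F] (hQ : Nondeg Q) (hR : IsRat Q b F₀)
    (hn : 7 ≤ Fintype.card ι) (hH : HasRat Q b F₀ H) {u v e : V} {c : F}
    (hu : u ∈ rat b F₀) (hv : v ∈ rat b F₀) (he : e ∈ rat b F₀) (huv : Hyp Q u v)
    (he0 : e ≠ 0) (hue : polar Q u e = 0) (hve : polar Q v e = 0) (hse : Q e = 0)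
    (h : Has Q H u (c • e)) : c ∈ mult Q b F₀ H := by
  have hu0 : u ≠ 0 := huv.left_ne
  have hall : ∀ y ∈ rat b F₀, Q y = 0 → polar Q u y = 0 → Has Q H u (c • y) := by
    intro y hy hsy huy
    set y' := y - polar Q v y • u with hy'
    have hy'R : y' ∈ rat b F₀ := (rat b F₀).sub_mem hy (rat_smul (hR.polar hv hy) hu)
    have hsy' : Q y' = 0 := by
      rw [hy', sub_eq_add_neg, ← neg_smul, Q_add, QuadraticMap.map_smul, hsy, huv.left,
        polar_smul_right, polar_comm Q y u, huy]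
      simp
    have huy' : polar Q u y' = 0 := by
      rw [hy', polar_sub_right, polar_smul_right, huy, huv.polar_left]
      simp
    have hvy' : polar Q v y' = 0 := by
      rw [hy', polar_sub_right, polar_smul_right, huv.pair']
      simp
    have hyy' : c • y = c • y' + (c * polar Q v y) • u := by
      rw [hy']; module
    rw [hyy']
    refine Has.add_smul_self ?_ _
    by_cases h0 : y' = 0
    · rw [h0, smul_zero]
      exact has_zero h.sing
    obtain ⟨g, hg, hgu, hge⟩ := trans_rat_perp hQ hR hn hH hu hv huv he hy'R hse hsy' he0 h0 hue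
      hve huy' hvy'
    have h1 := h.map (E_le_O hg.2) hg.1
    rwa [hgu, map_smul, hge] at h1
  intro x hx y hy hsx hsy hxy
  by_cases hx0 : x = 0
  · subst hx0
    exact has_zero_left _
  obtain ⟨g, hg, hgx, hgR⟩ := trans_rat hQ hR (by omega) hH hx hu hsx h.sing hx0 hu0
  have hgO : g ∈ O Q := E_le_O hg.2
  have h1 := hall (g y) (hgR y hy) (by rw [mem_O.1 hgO, hsy])
    (by rw [← hgx, polar_map hgO, hxy])
  have h2 := h1.map ((O Q).inv_mem hgO) (H.inv_mem hg.1)
  have e1 : g⁻¹ u = x := by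
    rw [← hgx]
    exact LinearEquiv.symm_apply_apply g x
  have e2 : g⁻¹ (c • g y) = c • y := by
    rw [← map_smul]
    exact LinearEquiv.symm_apply_apply g _
  rwa [e1, e2] at h2

theorem full_of_mult [Finite F] (hQ : Nondeg Q) (hR : IsRat Q b F₀)
    (hn : 7 ≤ Fintype.card ι) (hall : ∀ c : F, c ∈ mult Q b F₀ H) {u v : V}
    (hu : u ∈ rat b F₀) (hv : v ∈ rat b F₀) (huv : Hyp Q u v) : Full Q H u := by
  refine ⟨huv.left, fun w hw => ?_⟩
  have h1 : ∀ t ∈ rat b F₀, ∀ c : F, Has Q H u (c • proj Q u v t) := by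
    intro t ht
    refine rat_sing_induction hQ hR hn hu hv (P := fun x => ∀ c : F, Has Q H u (c • x)) ?_ ?_
      (proj_rat hR hu hv ht) (polar_proj_left huv t) (polar_proj_right huv t)
    · intro a d ha hd c
      show Has Q H u (c • (a + d))
      rw [smul_add]
      exact (ha c).add (hd c)
    · intro a ha hsa hua _ c
      exact hall c u hu a ha huv.left hsa hua
  have h2 : proj Q u v w = ∑ i, b.repr w i • proj Q u v (b i) := by
    have e : ∀ t, proj Q u v t =
        (LinearMap.id - (polarBilin Q v).smulRight u - (polarBilin Q u).smulRight v :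
          V →ₗ[F] V) t := by
      intro t
      simp [proj]
    rw [e w]
    conv_lhs => rw [← b.sum_repr w]
    rw [map_sum]
    refine Finset.sum_congr rfl fun i _ => ?_
    rw [map_smul, ← e]
  have h3 : Has Q H u (proj Q u v w) := by
    rw [h2]
    refine Finset.sum_induction _ (fun x => Has Q H u x) (fun x y hx hy => hx.add hy)
      (has_zero huv.left) fun i _ => h1 _ (basis_mem i) _
  have e : w = proj Q u v w + polar Q v w • u := by
    rw [proj, hw]; module
  rw [e]
  exact h3.add_smul_self _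

/-- **First dichotomy.** -/
theorem thin_or_E_le [Finite F] (hQ : Nondeg Q) (hR : IsRat Q b F₀)
    (hn : 7 ≤ Fintype.card ι) {r : ℕ} (hr : r.Prime) (hcard : Nat.card F = Nat.card F₀ ^ r)
    (hH : HasRat Q b F₀ H) : Thin Q b F₀ H ∨ E Q ≤ H := by
  by_contra hcon
  push Not at hcon
  obtain ⟨hthin, hE⟩ := hcon
  unfold Thin at hthin
  push Not at hthin
  obtain ⟨u, hu, hu0, w, hw, hbad⟩ := hthin
  obtain ⟨c, hc, v₀, hv₀, e, he, huv₀, he0, hue, hve, hse, hce⟩ :=
    exists_irrational_root hQ hR hn hH hu hu0 hw (by push Not; exact hbad)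
  have hmem : c ∈ mult Q b F₀ H := mem_mult hQ hR hn hH hu hv₀ he huv₀ he0 hue hve hse hce
  have key := Cfsg.Agent.H888.FieldDich.dichotomy F₀ hr hcard (mult Q b F₀ H)
    (fun d hd x hx y hy hsx _ hxy => hH x hx (d • y) (rat_smul hd hy) hsx
      (by rw [polar_smul_right, hxy, smul_zero]))
    (fun d hd d' hd' x hx y hy hsx hsy hxy => by
      rw [add_smul]
      exact (hd x hx y hy hsx hsy hxy).add (hd' x hx y hy hsx hsy hxy))
    (fun d hd d' hd' x hx y hy hsx hsy hxy => by
      by_cases hx0 : x = 0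
      · subst hx0
        exact has_zero_left _
      obtain ⟨x', hx', hxx'⟩ := exists_partner_rat hQ hR hx hsx hx0
      set y' := y - polar Q x' y • x with hy'
      have hy'R : y' ∈ rat b F₀ := (rat b F₀).sub_mem hy (rat_smul (hR.polar hx' hy) hx)
      have hsy' : Q y' = 0 := by
        rw [hy', sub_eq_add_neg, ← neg_smul, Q_add, QuadraticMap.map_smul, hsy, hxx'.left,
          polar_smul_right, polar_comm Q y x, hxy]
        simp
      have hxy' : polar Q x y' = 0 := by
        rw [hy', polar_sub_right, polar_smul_right, hxy, hxx'.polar_left]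
        simp
      have hx'y' : polar Q x' y' = 0 := by
        rw [hy', polar_sub_right, polar_smul_right, hxx'.pair']
        simp
      have hyy' : (d * d') • y = (d * d') • y' + ((d * d') * polar Q x' y) • x := by
        rw [hy']; module
      rw [hyy']
      refine Has.add_smul_self ?_ _
      by_cases h0 : y' = 0
      · rw [h0, smul_zero]
        exact has_zero hsx
      obtain ⟨z, hz, hy'z, hxz, hx'z⟩ :=
        exists_partner_rat_perp hQ hR hx hx' hxx' hy'R hsy' h0 hxy' hx'y'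
      obtain ⟨a, ha, a', ha', haa', ⟨h1x, -, h1y, -⟩, ⟨h2x, -, h2y, -⟩⟩ :=
        exists_hyp_rat_perp2 hQ hR hn hx hx' hxx' hy'R hz hy'z hxy' hxz hx'y' hx'z
      have h3 := hd a ha y' hy'R haa'.left hsy' (by rw [polar_comm]; exact h1y)
      have h4 := hd' x hx a' ha' hsx haa'.right h2x
      have h5 := h3.comm' h4 (by rw [polar_comm]; exact h1x)
        (by rw [polar_smul_left, polar_comm, hxy', smul_zero])
        (by rw [QuadraticMap.map_smul, hsy', smul_zero])
        (by rw [polar_smul_left, polar_smul_right, h2y]; simp)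
      rw [polar_smul_right, haa'.pair, smul_eq_mul, mul_one, smul_smul, mul_comm] at h5
      exact h5)
  rcases key with h | h
  · exact hc (h c hmem)
  · apply hE
    obtain ⟨v, hv, huv⟩ := exists_partner_rat hQ hR hu hw.sing hu0
    have hfin : 5 ≤ Module.finrank F V := by
      rw [Module.finrank_eq_card_basis b]; omega
    exact E_le_of_full_pair (good_of_finite hQ hfin) (full_of_mult hQ hR (by omega) h hu hv huv)
      (full_of_mult hQ hR (by omega) h hv hu huv.symm) (by rw [huv.pair]; exact one_ne_zero)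

end Cfsg.Agent.H888.Rat
end

-- part: H888/RatStab
section
/-!
A thin overgroup `H` of the normaliser of a rational structure: stabilisers in `H` of rational totally
singular subspaces normalise the rational structure.
-/

set_option autoImplicit false

namespace Cfsg.Agent.H888.Rat

open QuadraticMap hiding proj
open Cfsg.Agent.LieClassical.OrthCore Cfsg.Agent.LieClassical.OrthTrans
  Cfsg.Agent.LieClassical.OrthFinite Cfsg.Agent.H883.Root Cfsg.Agent.H883.Sub

variable {F V : Type*} [Field F] [AddCommGroup V] [Module F V] {ι : Type*}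
variable {b : Module.Basis ι F V} {F₀ : Subfield F} {Q : QuadraticForm F V}
variable {H : Subgroup (V ≃ₗ[F] V)}

/-- Automorphisms mapping the rational structure to a multiple of itself. -/
def stR (b : Module.Basis ι F V) (F₀ : Subfield F) : Subgroup (V ≃ₗ[F] V) where
  carrier := {g | ∃ c : F, c ≠ 0 ∧ ∀ v, v ∈ rat b F₀ ↔ c • g v ∈ rat b F₀}
  mul_mem' {g h} hg hh := by
    obtain ⟨c, hc, hg⟩ := hg
    obtain ⟨d, hd, hh⟩ := hh
    refine ⟨c * d, mul_ne_zero hc hd, fun v => ?_⟩
    rw [hh v, hg (d • h v)]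
    show _ ↔ (c * d) • g (h v) ∈ _
    rw [map_smul, smul_smul]
  one_mem' := ⟨1, one_ne_zero, fun v => by rw [one_smul]; rfl⟩
  inv_mem' {g} hg := by
    obtain ⟨c, hc, hg⟩ := hg
    refine ⟨c⁻¹, inv_ne_zero hc, fun v => ?_⟩
    have h1 : g (g⁻¹ v) = v := LinearEquiv.apply_symm_apply g v
    rw [hg (c⁻¹ • g⁻¹ v), map_smul, h1, smul_smul, mul_inv_cancel₀ hc, one_smul]

theorem mem_stR {g : V ≃ₗ[F] V} :
    g ∈ stR b F₀ ↔ ∃ c : F, c ≠ 0 ∧ ∀ v, v ∈ rat b F₀ ↔ c • g v ∈ rat b F₀ := Iff.rfl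

theorem mem_stR_of_forall [Fintype ι] [Finite F] {g : V ≃ₗ[F] V} {c : F} (hc : c ≠ 0)
    (h : ∀ v ∈ rat b F₀, c • g v ∈ rat b F₀) : g ∈ stR b F₀ := by
  refine ⟨c, hc, fun v => ⟨h v, fun hv => ?_⟩⟩
  have : Module.Finite F V := Module.Finite.of_basis b
  have : Finite V := Module.finite_of_finite F
  let f : rat b F₀ → rat b F₀ := fun x => ⟨c • g (x : V), h _ x.2⟩
  have hf : Function.Injective f := by
    intro x y hxy
    have h1 : c • g (x : V) = c • g (y : V) := congrArg Subtype.val hxy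
    exact Subtype.ext (g.injective (smul_right_injective V hc h1))
  obtain ⟨x, hx⟩ := Finite.surjective_of_injective hf ⟨c • g v, hv⟩
  have h1 : c • g (x : V) = c • g v := congrArg Subtype.val hx
  rw [← g.injective (smul_right_injective V hc h1)]
  exact x.2

/-- An element of `stR` fixing a nonzero rational vector preserves the rational structure. -/
theorem map_rat_of_fix {k : V ≃ₗ[F] V} (hk : k ∈ stR b F₀) {u : V} (hu : u ∈ rat b F₀)
    (hu0 : u ≠ 0) (hku : k u = u) {v : V} (hv : v ∈ rat b F₀) : k v ∈ rat b F₀ := by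
  obtain ⟨c, hc, h⟩ := hk
  have h1 := (h u).1 hu
  rw [hku] at h1
  have h2 := mem_of_smul_mem hu hu0 h1
  have h3 := rat_smul (F₀.inv_mem h2) ((h v).1 hv)
  rwa [smul_smul, inv_mul_cancel₀ hc, one_smul] at h3

theorem siegel_mem_stR [Fintype ι] [Finite F] (hR : IsRat Q b F₀) {u w : V} (hu : Q u = 0)
    (hw : polar Q u w = 0) (huR : u ∈ rat b F₀) (hwR : w ∈ rat b F₀) :
    siegel Q u w hu hw ∈ stR b F₀ :=
  mem_stR_of_forall one_ne_zero fun v hv => by
    rw [one_smul]
    exact siegel_rat hR hu hw huR hwR hv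

/-- The standing hypotheses on `H`. -/
structure Ctx (Q : QuadraticForm F V) (b : Module.Basis ι F V) (F₀ : Subfield F)
    (H : Subgroup (V ≃ₗ[F] V)) : Prop where
  nondeg : Nondeg Q
  isRat : IsRat Q b F₀
  le : stR b F₀ ⊓ E Q ≤ H
  leE : H ≤ E Q
  thin : Thin Q b F₀ H

theorem hasRat_of_le [Fintype ι] [Finite F] (hR : IsRat Q b F₀) (h : stR b F₀ ⊓ E Q ≤ H) :
    HasRat Q b F₀ H := fun _ hu _ hw hsu huw =>
  ⟨hsu, huw, h ⟨siegel_mem_stR hR hsu huw hu hw, siegel_mem_E _ _⟩⟩

variable [Fintype ι] [Finite F]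

theorem Ctx.has (C : Ctx Q b F₀ H) : HasRat Q b F₀ H := hasRat_of_le C.isRat C.le

omit [Fintype ι] [Finite F] in
theorem Ctx.isom {g : V ≃ₗ[F] V} (C : Ctx Q b F₀ H) (hg : g ∈ H) : g ∈ O Q := E_le_O (C.leE hg)

/-- **The stabiliser in `H` of a rational singular point normalises the rational structure.** -/
theorem Ctx.stab_point (C : Ctx Q b F₀ H) (hn : 7 ≤ Fintype.card ι) {g : V ≃ₗ[F] V} (hg : g ∈ H)
    {u : V} (hu : u ∈ rat b F₀) (hu0 : u ≠ 0) (hsu : Q u = 0) {a : F} (hgu : g u = a • u) :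
    g ∈ stR b F₀ := by
  have hgO := C.isom hg
  have ha : a ≠ 0 := by
    rintro rfl
    rw [zero_smul] at hgu
    exact hu0 (g.map_eq_zero_iff.1 hgu)
  obtain ⟨v, hv, huv⟩ := exists_partner_rat C.nondeg C.isRat hu hsu hu0
  have hv' : Hyp Q u (a • g v) := by
    refine ⟨hsu, ?_, ?_⟩
    · rw [QuadraticMap.map_smul, mem_O.1 hgO, huv.right, smul_zero]
    · rw [polar_smul_right, ← polar_smul_left, ← hgu, polar_map hgO, huv.pair]
  have hw : polar Q u (a • g v - v) = 0 := by
    rw [polar_sub_right, hv'.pair, huv.pair, sub_self]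
  set k := siegel Q u (a • g v - v) hsu hw with hk
  have hkE : k ∈ E Q := siegel_mem_E _ _
  have hkO : k ∈ O Q := siegel_mem_O _ _
  have hku : k u = u := by
    rw [hk, siegel_apply, huv.polar_left, polar_comm Q _ u, hw]
    simp
  have hkv : k v = a • g v := by
    have hQ' : Q (a • g v - v) = - polar Q (a • g v) v := by
      rw [sub_eq_add_neg, Q_add, QuadraticMap.map_neg, polar_neg_right, hv'.right, huv.right]
      ring
    rw [hk, siegel_apply, huv.pair, hQ', polar_sub_left, huv.polar_right]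
    module
  -- `g' = k⁻¹ g`
  set g' := k⁻¹ * g with hg'
  have hkg' : ∀ x, k (g' x) = g x := fun x => LinearEquiv.apply_symm_apply k (g x)
  have hg'E : g' ∈ E Q := (E Q).mul_mem ((E Q).inv_mem hkE) (C.leE hg)
  have hg'O : g' ∈ O Q := E_le_O hg'E
  have hg'u : g' u = a • u := by
    apply k.injective
    rw [hkg', map_smul, hku, hgu]
  have hg'v : a • g' v = v := by
    apply k.injective
    rw [map_smul, hkg', hkv]
  -- action on the complement
  have hx : ∀ x ∈ rat b F₀, polar Q u x = 0 → polar Q v x = 0 →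
      a • g' x ∈ rat b F₀ := by
    intro x hx hux hvx
    have h1 : Has Q H (g u) (g x) := (C.has u hu x hx hsu hux).map hgO hg
    rw [hgu] at h1
    have hugx : polar Q u (g x) = 0 := by
      have h2 := h1.perp
      rw [polar_smul_left, smul_eq_mul] at h2
      exact (mul_eq_zero.1 h2).resolve_left ha
    have h2 : Has Q H u (a • g x) := h1.smul_right hsu hugx
    obtain ⟨x₀, hx₀, c, hc⟩ := C.thin u hu hu0 _ h2
    -- apply `k⁻¹`
    have hux₀ : polar Q u x₀ = 0 := by
      have h3 : polar Q u (a • g x) = 0 := h2.perp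
      rw [hc, polar_add_right, polar_smul_right, huv.polar_left, smul_zero, add_zero] at h3
      exact h3
    have h4 : k (x₀ + (c + polar Q (a • g v - v) x₀) • u) = a • g x := by
      rw [map_add, map_smul, hku, hc, hk, siegel_apply, hux₀]
      simp only [zero_smul, mul_zero]
      module
    have h5 : a • g' x = x₀ + (c + polar Q (a • g v - v) x₀) • u := by
      apply k.injective
      rw [h4, map_smul, hkg']
    have h6 : polar Q v (a • g' x) = 0 := by
      have h7 : polar Q (g' v) (g' x) = 0 := by rw [polar_map hg'O, hvx]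
      rw [← hg'v, polar_smul_left, polar_smul_right, h7]
      simp
    rw [h5] at h6 ⊢
    rw [polar_add_right, polar_smul_right, huv.pair', smul_eq_mul, mul_one] at h6
    have h8 : c + polar Q (a • g v - v) x₀ = - polar Q v x₀ := by linear_combination h6
    rw [h8]
    exact (rat b F₀).add_mem hx₀ (rat_smul (F₀.neg_mem (C.isRat.polar hv hx₀)) hu)
  -- `a²` is rational
  have ha2 : a * a ∈ F₀ := by
    obtain ⟨e, he, f, hf, hef, h1, h2⟩ := exists_hyp_rat C.nondeg C.isRat ![u, v]
      (by intro i; fin_cases i <;> assumption) (by omega)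
    have hue : polar Q u e = 0 := h1 0
    have hve : polar Q v e = 0 := h1 1
    have huf : polar Q u f = 0 := h2 0
    have hvf : polar Q v f = 0 := h2 1
    have h3 := hx (e + f) ((rat b F₀).add_mem he hf)
      (by rw [polar_add_right, hue, huf, add_zero]) (by rw [polar_add_right, hve, hvf, add_zero])
    have h4 := C.isRat _ h3
    rw [QuadraticMap.map_smul, mem_O.1 hg'O, Q_add, hef.left, hef.right, hef.pair] at h4
    simpa using h4
  have hg'R : g' ∈ stR b F₀ := by
    refine mem_stR_of_forall ha fun t ht => ?_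
    have e : t = polar Q v t • u + polar Q u t • v + Cfsg.Agent.LieClassical.OrthTrans.proj Q u v t := by
      rw [Cfsg.Agent.LieClassical.OrthTrans.proj]; module
    have e2 : a • g' t = (polar Q v t * (a * a)) • u + polar Q u t • v +
        a • g' (Cfsg.Agent.LieClassical.OrthTrans.proj Q u v t) := by
      conv_lhs => rw [e]
      rw [map_add, map_add, map_smul, map_smul, hg'u, smul_add, smul_add, smul_comm a (polar Q u t),
        hg'v, smul_smul, smul_smul]
      congr 3
      ring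
    rw [e2]
    refine (rat b F₀).add_mem ((rat b F₀).add_mem
      (rat_smul (F₀.mul_mem (C.isRat.polar hv ht) ha2) hu) (rat_smul (C.isRat.polar hu ht) hv)) ?_
    exact hx _ (proj_rat C.isRat hu hv ht) (polar_proj_left huv t) (polar_proj_right huv t)
  have hg'H : g' ∈ H := C.le ⟨hg'R, hg'E⟩
  have hkH : k ∈ H := by
    have : k = g * g'⁻¹ := by rw [hg']; group
    rw [this]
    exact H.mul_mem hg (H.inv_mem hg'H)
  obtain ⟨w₀, hw₀, c, hc⟩ := C.thin u hu hu0 _ ⟨hsu, hw, hkH⟩
  have hkR : k ∈ stR b F₀ := by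
    have huw₀ : polar Q u w₀ = 0 := by
      have h3 := hw
      rw [hc, polar_add_right, polar_smul_right, huv.polar_left, smul_zero, add_zero] at h3
      exact h3
    have hcu : polar Q u (c • u) = 0 := by
      rw [polar_smul_right, huv.polar_left, smul_zero]
    have e : k = siegel Q u w₀ hsu huw₀ := by
      have h1 := siegel_mul hsu huw₀ hcu (by rw [← hc]; exact hw)
      rw [siegel_self, mul_one] at h1
      rw [h1, hk]
      congr 1
    rw [e]
    exact siegel_mem_stR C.isRat hsu huw₀ hu hw₀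
  have : g = k * g' := by rw [hg']; group
  rw [this]
  exact (stR b F₀).mul_mem hkR hg'R

/-- **If `h ∈ H` maps a rational singular point to a rational point then `h` normalises the rational
structure.** -/
theorem Ctx.rat_image (C : Ctx Q b F₀ H) (hn : 7 ≤ Fintype.card ι) {h : V ≃ₗ[F] V} (hh : h ∈ H)
    {u : V} (hu : u ∈ rat b F₀) (hu0 : u ≠ 0) (hsu : Q u = 0) {c : F} (hc : c ≠ 0)
    (hhu : c • h u ∈ rat b F₀) : h ∈ stR b F₀ := by
  have hs : Q (c • h u) = 0 := by
    rw [QuadraticMap.map_smul, mem_O.1 (C.isom hh), hsu, smul_zero]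
  have h0 : c • h u ≠ 0 := by
    rw [smul_ne_zero_iff]
    exact ⟨hc, fun h0 => hu0 (h.map_eq_zero_iff.1 h0)⟩
  obtain ⟨m, hm, hmu, hmR⟩ := trans_rat C.nondeg C.isRat (by omega) C.has hhu hu hs hsu h0 hu0
  have h1 : (m * h) u = c⁻¹ • u := by
    show m (h u) = _
    have h2 : c • m (h u) = u := by rw [← map_smul, hmu]
    rw [← h2, smul_smul, inv_mul_cancel₀ hc, one_smul, h2]
  have h2 := C.stab_point hn (H.mul_mem hm.1 hh) hu hu0 hsu h1
  have h3 : m ∈ stR b F₀ := mem_stR_of_forall one_ne_zero fun v hv => by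
    rw [one_smul]
    exact hmR v hv
  have : h = m⁻¹ * (m * h) := by group
  rw [this]
  exact (stR b F₀).mul_mem ((stR b F₀).inv_mem h3) h2

/-- `D` is spanned by its rational vectors. -/
def RatSub (b : Module.Basis ι F V) (F₀ : Subfield F) (D : Submodule F V) : Prop :=
  D ≤ Submodule.span F {v | v ∈ rat b F₀ ∧ v ∈ D}

omit [Fintype ι] [Finite F] in
theorem ratSub_span {S : Set V} (hS : ∀ s ∈ S, s ∈ rat b F₀) :
    RatSub b F₀ (Submodule.span F S) :=
  Submodule.span_mono fun s hs => ⟨hS s hs, Submodule.subset_span hs⟩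

omit [Fintype ι] [Finite F] in
theorem RatSub.exists_ne {D : Submodule F V} (hD : RatSub b F₀ D) (h0 : D ≠ ⊥) :
    ∃ v ∈ rat b F₀, v ∈ D ∧ v ≠ 0 := by
  by_contra hcon
  push Not at hcon
  apply h0
  rw [eq_bot_iff]
  refine hD.trans (Submodule.span_le.2 ?_)
  rintro v ⟨hv, hvD⟩
  exact (Submodule.mem_bot F).2 (hcon v hv hvD)

omit [Fintype ι] [Finite F] in
theorem RatSub.perp_of {D : Submodule F V} (hD : RatSub b F₀ D) {v : V}
    (h : ∀ s ∈ {v | v ∈ rat b F₀ ∧ v ∈ D}, polar Q s v = 0) : v ∈ perp Q D := by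
  rw [mem_perp]
  intro w hw
  have h1 : Submodule.span F {v | v ∈ rat b F₀ ∧ v ∈ D} ≤ LinearMap.ker ((polarBilin Q).flip v) := by
    rw [Submodule.span_le]
    intro s hs
    exact h s hs
  exact h1 (hD hw)

/-- A vector outside a rationally spanned subspace is separated from it by a rational vector. -/
theorem RatSub.exists_sep (hQ : Nondeg Q) (hR : IsRat Q b F₀) {D : Submodule F V}
    (hD : RatSub b F₀ D) {x : V} (hx : x ∉ D) :
    ∃ w ∈ rat b F₀, w ∈ perp Q D ∧ polar Q x w ≠ 0 := by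
  have : Module.Finite F V := Module.Finite.of_basis b
  rw [← perp_perp hQ D, mem_perp] at hx
  push Not at hx
  obtain ⟨v, hv, hvx⟩ := hx
  obtain ⟨w, hw, h1, h2⟩ := exists_rat_sep hR (S := {v | v ∈ rat b F₀ ∧ v ∈ D}) (fun s hs => hs.1)
    (x := x) (v := v) (fun s hs => mem_perp.1 hv s hs.2) (by rwa [polar_comm])
  exact ⟨w, hw, hD.perp_of h1, h2⟩

/-- **If `D` is totally singular, spanned by rational vectors and by images under `h ∈ H` of rational
vectors, then `h` normalises the rational structure.** -/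
theorem Ctx.stab_sub (C : Ctx Q b F₀ H) (hn : 7 ≤ Fintype.card ι) {h : V ≃ₗ[F] V} (hh : h ∈ H)
    {D : Submodule F V} (h0 : D ≠ ⊥) (hs : ∀ x ∈ D, Q x = 0) (hp : ¬ perp Q D ≤ D)
    (hD : RatSub b F₀ D) (hD' : RatSub b F₀ (D.comap (h : V →ₗ[F] V))) : h ∈ stR b F₀ := by
  have hhO := C.isom hh
  have hpol : ∀ x ∈ D, ∀ y ∈ D, polar Q x y = 0 := by
    intro x hx y hy
    rw [polar, hs _ (D.add_mem hx hy), hs x hx, hs y hy]
    ring
  have : Module.Finite F V := Module.Finite.of_basis b
  obtain ⟨u, hu, huD, hu0⟩ := hD.exists_ne h0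
  have h0' : D.comap (h : V →ₗ[F] V) ≠ ⊥ := by
    intro h1
    obtain ⟨d, hd, hd0⟩ := Submodule.exists_mem_ne_zero_of_ne_bot h0
    have h2 : h.symm d ∈ D.comap (h : V →ₗ[F] V) := by
      show h (h.symm d) ∈ D
      rw [LinearEquiv.apply_symm_apply]
      exact hd
    rw [h1, Submodule.mem_bot] at h2
    exact hd0 (h.symm.map_eq_zero_iff.1 h2)
  obtain ⟨a₁, ha₁, ha₁D, ha₁0⟩ := hD'.exists_ne h0'
  have ha₁D' : h a₁ ∈ D := ha₁D
  -- a rational vector orthogonal to `h⁻¹ D` outside it
  obtain ⟨x, hxp, hxD⟩ := SetLike.not_le_iff_exists.1 hp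
  have hx1 : h.symm x ∉ D.comap (h : V →ₗ[F] V) := by
    intro h1
    have h2 : h (h.symm x) ∈ D := h1
    rw [LinearEquiv.apply_symm_apply] at h2
    exact hxD h2
  have hx2 : h.symm x ∈ perp Q (D.comap (h : V →ₗ[F] V)) := by
    rw [mem_perp]
    intro w hw
    have hw' : h w ∈ D := hw
    rw [← polar_map hhO, LinearEquiv.apply_symm_apply]
    exact mem_perp.1 hxp _ hw'
  obtain ⟨b₁, hb₁, hb₁p, hb₁x⟩ := hD'.exists_sep C.nondeg C.isRat hx1
  have hb₁D : h b₁ ∉ D := by
    intro h1
    apply hb₁x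
    exact mem_perp'.1 hx2 b₁ h1
  have hab₁ : polar Q a₁ b₁ = 0 := mem_perp.1 hb₁p _ ha₁D
  have hsa₁ : Q a₁ = 0 := by
    rw [← mem_O.1 hhO]
    exact hs _ ha₁D'
  have hk := (C.has a₁ ha₁ b₁ hb₁ hsa₁ hab₁).map hhO hh
  have hbD : ∀ d ∈ D, polar Q (h b₁) d = 0 := by
    intro d hd
    have h1 : h (h.symm d) = d := LinearEquiv.apply_symm_apply h d
    rw [← h1, polar_map hhO, polar_comm]
    refine mem_perp.1 hb₁p _ ?_
    show h (h.symm d) ∈ D
    rw [h1]
    exact hd
  set k := siegel Q (h a₁) (h b₁) hk.sing hk.perp with hkdef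
  have hkH : k ∈ H := hk.mem _ _
  have hku : k u = u := siegel_fix _ _ (hpol _ ha₁D' _ huD) (hbD _ huD)
  have hkR : k ∈ stR b F₀ := C.stab_point hn hkH hu hu0 (hs u huD) (a := 1)
    (by rw [one_smul, hku])
  obtain ⟨v, hv, hvp, hbv⟩ := hD.exists_sep C.nondeg C.isRat hb₁D
  have hkv := map_rat_of_fix hkR hu hu0 hku hv
  have hav : polar Q (h a₁) v = 0 := mem_perp.1 hvp _ ha₁D'
  rw [hkdef, siegel_apply, hav] at hkv
  have h1 : polar Q (h b₁) v • h a₁ ∈ rat b F₀ := by
    have h2 := (rat b F₀).sub_mem hv hkv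
    have e : v - (v + (0 : F) • h b₁ - polar Q (h b₁) v • h a₁ - (Q (h b₁) * 0) • h a₁) =
        polar Q (h b₁) v • h a₁ := by
      rw [mul_zero]; module
    rwa [e] at h2
  exact C.rat_image hn hh ha₁ ha₁0 hsa₁ hbv h1

end Cfsg.Agent.H888.Rat
end

-- part: H888/RatOpp
section
/-!
A root element of a thin overgroup `H` outside the normaliser of the rational structure is opposite to
every rational totally singular line.
-/

set_option autoImplicit false

namespace Cfsg.Agent.H888.Rat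

open QuadraticMap hiding proj
open Cfsg.Agent.LieClassical.OrthCore Cfsg.Agent.LieClassical.OrthTrans
  Cfsg.Agent.LieClassical.OrthFinite Cfsg.Agent.H883.Root Cfsg.Agent.H883.Sub

variable {F V : Type*} [Field F] [AddCommGroup V] [Module F V] {ι : Type*}
variable {b : Module.Basis ι F V} {F₀ : Subfield F} {Q : QuadraticForm F V}
variable {H : Subgroup (V ≃ₗ[F] V)}

/-- Change of basis of the line of a root element. -/
theorem has_line {u₁ u₂ : V} (h : Has Q H u₁ u₂) (h2 : Q u₂ = 0) {α β γ δ : F}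
    (hd : α * δ - β * γ = 1) : Has Q H (α • u₁ + β • u₂) (γ • u₁ + δ • u₂) := by
  have h1 := h.sing
  have h12 := h.perp
  have h21 : polar Q u₂ u₁ = 0 := by rw [polar_comm]; exact h12
  have h11 : polar Q u₁ u₁ = 0 := polar_self_of_sing h1
  have h22 : polar Q u₂ u₂ = 0 := polar_self_of_sing h2
  have hs : ∀ x y : F, Q (x • u₁ + y • u₂) = 0 := by
    intro x y
    rw [Q_add, QuadraticMap.map_smul, QuadraticMap.map_smul, h1, h2, polar_smul_left,
      polar_smul_right, h12]
    simp
  have hp : polar Q (α • u₁ + β • u₂) (γ • u₁ + δ • u₂) = 0 := by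
    simp only [polar_add_left, polar_add_right, polar_smul_left, polar_smul_right, h12, h21, h11,
      h22, smul_zero, add_zero]
  refine ⟨hs _ _, hp, ?_⟩
  have e : siegel Q (α • u₁ + β • u₂) (γ • u₁ + δ • u₂) (hs _ _) hp = siegel Q u₁ u₂ h1 h12 := by
    ext t
    rw [siegel_apply, siegel_apply, hs, h2]
    simp only [polar_add_left, polar_smul_left, smul_eq_mul, zero_mul, zero_smul, sub_zero]
    have e1 : polar Q u₁ t • u₂ - polar Q u₂ t • u₁ =
        (α * δ - β * γ) • (polar Q u₁ t • u₂ - polar Q u₂ t • u₁) := by rw [hd, one_smul]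
    have e2 : t + polar Q u₁ t • u₂ - polar Q u₂ t • u₁ =
        t + (polar Q u₁ t • u₂ - polar Q u₂ t • u₁) := by module
    rw [e2, e1]
    module
  rw [e]
  exact h.2.2

theorem siegel_pow {u w : V} (hu : Q u = 0) (hw : polar Q u w = 0) (m : ℕ)
    (hm : polar Q u ((m : F) • w) = 0) :
    (siegel Q u w hu hw) ^ m = siegel Q u ((m : F) • w) hu hm := by
  induction m with
  | zero =>
    rw [pow_zero]
    ext t
    rw [siegel_apply]
    simp
  | succ m ih =>
    have hm' : polar Q u ((m : F) • w) = 0 := by rw [polar_smul_right, hw, smul_zero]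
    have h1 : polar Q u ((m : F) • w + w) = 0 := by rw [polar_add_right, hm', hw, add_zero]
    rw [pow_succ, ih hm', siegel_mul hu hm' hw h1]
    congr 1
    push_cast
    rw [add_smul, one_smul]

theorem siegel_pow_char {p : ℕ} [CharP F p] {u w : V} (hu : Q u = 0) (hw : polar Q u w = 0) :
    (siegel Q u w hu hw) ^ p = 1 := by
  have hp : polar Q u ((p : F) • w) = 0 := by rw [polar_smul_right, hw, smul_zero]
  rw [siegel_pow hu hw p hp]
  ext t
  rw [siegel_apply, CharP.cast_eq_zero, zero_smul]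
  simp

/-- An element of order `p` normalising the rational structure preserves it. -/
theorem map_rat_of_pow [Finite F] {p : ℕ} [Fact p.Prime] [CharP F p] {k : V ≃ₗ[F] V}
    (hk : k ∈ stR b F₀) (hkp : k ^ p = 1) {v : V} (hv : v ∈ rat b F₀) : k v ∈ rat b F₀ := by
  by_cases hv0 : v = 0
  · rw [hv0, map_zero]; exact (rat b F₀).zero_mem
  obtain ⟨c, hc, h⟩ := hk
  have h1 : ∀ m : ℕ, c ^ m • (k ^ m) v ∈ rat b F₀ := by
    intro m
    induction m with
    | zero => rw [pow_zero, pow_zero, one_smul]; exact hv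
    | succ m ih =>
      have h2 := (h _).1 ih
      rw [map_smul, smul_smul, ← pow_succ'] at h2
      have h3 : k ((k ^ m) v) = (k ^ (m + 1)) v := by
        rw [pow_succ' k]; rfl
      rwa [h3] at h2
  have h2 := h1 p
  rw [hkp] at h2
  have h3 : c ^ p ∈ F₀ := mem_of_smul_mem hv hv0 h2
  have h4 : c ∈ F₀ := Cfsg.Agent.H888.FieldDich.mem_of_pow_mem F₀ h3
  have h5 := rat_smul (F₀.inv_mem h4) ((h v).1 hv)
  rwa [smul_smul, inv_mul_cancel₀ hc, one_smul] at h5

/-- `range (k - 1)` is rationally spanned if `k` preserves the rational structure. -/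
theorem ratSub_range {k : V ≃ₗ[F] V} (hk : ∀ v ∈ rat b F₀, k v ∈ rat b F₀) :
    RatSub b F₀ (LinearMap.range (k.toLinearMap - LinearMap.id)) := by
  rintro _ ⟨v, rfl⟩
  have h1 : (⊤ : Submodule F V) ≤ Submodule.span F (rat b F₀ : Set V) := by
    rw [← b.span_eq]
    refine Submodule.span_mono ?_
    rintro _ ⟨i, rfl⟩
    exact basis_mem i
  have hv : v ∈ Submodule.span F (rat b F₀ : Set V) := h1 trivial
  induction hv using Submodule.span_induction with
  | mem x hx =>
    refine Submodule.subset_span ⟨?_, ⟨x, rfl⟩⟩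
    exact (rat b F₀).sub_mem (hk x hx) hx
  | zero => rw [map_zero]; exact Submodule.zero_mem _
  | add x y _ _ hx hy => rw [map_add]; exact Submodule.add_mem _ hx hy
  | smul c x _ hx => rw [map_smul]; exact Submodule.smul_mem _ _ hx

/-- The line of a root element preserving the rational structure is rational. -/
theorem ratSub_of_siegel (hQ : Nondeg Q) {x y : V} (hx : Q x = 0) (hxy : polar Q x y = 0)
    (hy : Q y = 0) (h1 : ∀ c : F, x ≠ c • y) (h2 : ∀ c : F, y ≠ c • x)
    (hk : ∀ v ∈ rat b F₀, siegel Q x y hx hxy v ∈ rat b F₀) :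
    RatSub b F₀ (Submodule.span F {x, y}) := by
  have e : Submodule.span F {x, y} =
      LinearMap.range ((siegel Q x y hx hxy).toLinearMap - LinearMap.id) := by
    apply le_antisymm
    · rw [Submodule.span_le]
      obtain ⟨s, hs1, hs2⟩ := exists_sep hQ h1
      obtain ⟨t, ht1, ht2⟩ := exists_sep hQ h2
      rintro z (rfl | hz)
      · refine ⟨-t, ?_⟩
        show siegel Q _ y hx hxy (-t) - (-t) = _
        rw [siegel_apply, hy, polar_neg_right, polar_neg_right, ht1, ht2]
        module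
      · rw [Set.mem_singleton_iff] at hz
        subst hz
        refine ⟨s, ?_⟩
        show siegel Q x _ hx hxy s - s = _
        rw [siegel_apply, hy, hs1, hs2]
        module
    · rintro _ ⟨v, rfl⟩
      show siegel Q x y hx hxy v - v ∈ _
      rw [siegel_apply, hy]
      have e : v + polar Q x v • y - polar Q y v • x - (0 * polar Q x v) • x - v =
          polar Q x v • y - polar Q y v • x := by
        rw [zero_mul]; module
      rw [e]
      exact Submodule.sub_mem _ (Submodule.smul_mem _ _ (Submodule.subset_span (by simp)))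
        (Submodule.smul_mem _ _ (Submodule.subset_span (by simp)))
  rw [e]
  exact ratSub_range hk

theorem not_perp_le [FiniteDimensional F V] (hQ : Nondeg Q) {D : Submodule F V}
    (h : 2 * Module.finrank F D < Module.finrank F V) : ¬ perp Q D ≤ D := by
  intro hle
  have h1 := finrank_perp hQ D
  have h2 := Submodule.finrank_mono hle
  omega

theorem finrank_span_pair_le (x y : V) : Module.finrank F (Submodule.span F {x, y}) ≤ 2 := by
  classical
  have h := finrank_span_finset_le_card (R := F) ({x, y} : Finset V)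
  rw [Finset.coe_pair] at h
  exact h.trans Finset.card_le_two

theorem sing_of_span_pair {x y : V} (hx : Q x = 0) (hxy : polar Q x y = 0) (hy : Q y = 0)
    {z : V} (hz : z ∈ Submodule.span F {x, y}) : Q z = 0 := by
  obtain ⟨s, t, rfl⟩ := Submodule.mem_span_pair.1 hz
  rw [Q_add, QuadraticMap.map_smul, QuadraticMap.map_smul, hx, hy, polar_smul_left,
    polar_smul_right, hxy]
  simp

theorem comap_span_pair (h : V ≃ₗ[F] V) (x y : V) :
    (Submodule.span F {h x, h y}).comap (h : V →ₗ[F] V) = Submodule.span F {x, y} := by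
  ext z
  rw [Submodule.mem_comap, Submodule.mem_span_pair, Submodule.mem_span_pair]
  constructor
  · rintro ⟨s, t, he⟩
    refine ⟨s, t, h.injective ?_⟩
    rw [map_add, map_smul, map_smul]
    exact he
  · rintro ⟨s, t, rfl⟩
    refine ⟨s, t, ?_⟩
    show _ = h _
    rw [map_add, map_smul, map_smul]

variable [Fintype ι] [Finite F]

/-- **Lemma (line).**  `h ∈ H` mapping a rational line to a rational line normalises the structure. -/
theorem Ctx.line (C : Ctx Q b F₀ H) (hn : 7 ≤ Fintype.card ι) {h : V ≃ₗ[F] V} (hh : h ∈ H)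
    {x y : V} (hx0 : x ≠ 0) (hx : Q x = 0) (hxy : polar Q x y = 0) (hy : Q y = 0)
    (hD : RatSub b F₀ (Submodule.span F {x, y}))
    (hD' : RatSub b F₀ ((Submodule.span F {x, y}).comap (h : V →ₗ[F] V))) : h ∈ stR b F₀ := by
  have : Module.Finite F V := Module.Finite.of_basis b
  have hfin : Module.finrank F V = Fintype.card ι := Module.finrank_eq_card_basis b
  refine C.stab_sub hn hh ?_ (fun z hz => sing_of_span_pair hx hxy hy hz) ?_ hD hD'
  · intro h0
    have : x ∈ Submodule.span F {x, y} := Submodule.subset_span (by simp)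
    rw [h0] at this
    exact hx0 ((Submodule.mem_bot F).1 this)
  · apply not_perp_le C.nondeg
    have := finrank_span_pair_le (F := F) x y
    omega

/-- The root elements attached to images of rational lines under `h ∉ stR` are not in `stR`. -/
theorem Ctx.root_not_mem (C : Ctx Q b F₀ H) (hn : 7 ≤ Fintype.card ι) {h : V ≃ₗ[F] V} (hh : h ∈ H)
    (hnot : h ∉ stR b F₀) {e₁ e₂ : V} (he₁ : e₁ ∈ rat b F₀) (he₂ : e₂ ∈ rat b F₀)
    (hs₁ : Q e₁ = 0) (hs₂ : Q e₂ = 0) (h12 : polar Q e₁ e₂ = 0) (hi₁ : ∀ c : F, e₁ ≠ c • e₂)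
    (hi₂ : ∀ c : F, e₂ ≠ c • e₁) (hu : Q (h e₁) = 0) (hw : polar Q (h e₁) (h e₂) = 0) :
    siegel Q (h e₁) (h e₂) hu hw ∉ stR b F₀ := by
  intro hmem
  obtain ⟨p, hp⟩ := CharP.exists F
  have : Fact p.Prime := ⟨CharP.char_is_prime F p⟩
  have hk : ∀ v ∈ rat b F₀, siegel Q (h e₁) (h e₂) hu hw v ∈ rat b F₀ := fun v hv =>
    map_rat_of_pow (p := p) hmem (siegel_pow_char hu hw) hv
  have hs₂' : Q (h e₂) = 0 := by rw [mem_O.1 (C.isom hh), hs₂]
  have hD := ratSub_of_siegel C.nondeg hu hw hs₂'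
    (fun c hc => hi₁ c (h.injective (by rw [hc, map_smul])))
    (fun c hc => hi₂ c (h.injective (by rw [hc, map_smul]))) hk
  apply hnot
  refine C.line hn hh (x := h e₁) (y := h e₂) ?_ hu hw hs₂' hD ?_
  · intro h0
    apply hi₁ 0
    rw [zero_smul]
    exact h.map_eq_zero_iff.1 h0
  · rw [comap_span_pair]
    refine ratSub_span ?_
    rintro s (rfl | hs)
    · exact he₁
    · rw [Set.mem_singleton_iff] at hs
      rw [hs]; exact he₂

/-- **Opposition.** -/
theorem Ctx.opp (C : Ctx Q b F₀ H) (hn : 7 ≤ Fintype.card ι) {h : V ≃ₗ[F] V} (hh : h ∈ H)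
    (hnot : h ∉ stR b F₀) {e₁ e₂ : V} (he₁ : e₁ ∈ rat b F₀) (he₂ : e₂ ∈ rat b F₀)
    (hs₁ : Q e₁ = 0) (hs₂ : Q e₂ = 0) (h12 : polar Q e₁ e₂ = 0) (hi₁ : ∀ c : F, e₁ ≠ c • e₂)
    (hi₂ : ∀ c : F, e₂ ≠ c • e₁)
    {u₁ u₂ : V} (hu₁ : u₁ ∈ rat b F₀) (hu₂ : u₂ ∈ rat b F₀)
    (hsu₁ : Q u₁ = 0) (hsu₂ : Q u₂ = 0) (hu12 : polar Q u₁ u₂ = 0)
    (hj₁ : u₁ ≠ 0) {α β : F} (h1 : polar Q (α • u₁ + β • u₂) (h e₁) = 0)
    (h2 : polar Q (α • u₁ + β • u₂) (h e₂) = 0) : α • u₁ + β • u₂ = 0 := by
  by_contra hv0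
  have hhO := C.isom hh
  set a := h e₁ with ha
  set b' := h e₂ with hb'
  have hsa : Q a = 0 := by rw [ha, mem_O.1 hhO, hs₁]
  have hsb : Q b' = 0 := by rw [hb', mem_O.1 hhO, hs₂]
  have hab : polar Q a b' = 0 := by rw [ha, hb', polar_map hhO, h12]
  have hynot : siegel Q a b' hsa hab ∉ stR b F₀ :=
    C.root_not_mem hn hh hnot he₁ he₂ hs₁ hs₂ h12 hi₁ hi₂ hsa hab
  have hy : Has Q H a b' := (C.has e₁ he₁ e₂ he₂ hs₁ h12).map hhO hh
  set y := siegel Q a b' hsa hab with hydef
  have hyH : y ∈ H := hy.mem _ _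
  have hind : ∀ s t : F, s • a + t • b' = 0 → s = 0 ∧ t = 0 := by
    intro s t hst
    have h3 : s • e₁ + t • e₂ = 0 := by
      apply h.injective
      rw [map_add, map_smul, map_smul, map_zero]
      exact hst
    constructor
    · by_contra hs
      apply hi₁ (-(s⁻¹ * t))
      have h4 : e₁ = s⁻¹ • (s • e₁) := by rw [smul_smul, inv_mul_cancel₀ hs, one_smul]
      have h5 : s • e₁ = -(t • e₂) := eq_neg_of_add_eq_zero_left h3
      rw [h4, h5, smul_neg, smul_smul, neg_smul]
    · by_contra ht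
      apply hi₂ (-(t⁻¹ * s))
      have h4 : e₂ = t⁻¹ • (t • e₂) := by rw [smul_smul, inv_mul_cancel₀ ht, one_smul]
      have h5 : t • e₂ = -(s • e₁) := eq_neg_of_add_eq_zero_right h3
      rw [h4, h5, smul_neg, smul_smul, neg_smul]
  -- a basis `v, v'` of the line of `u₁, u₂`
  obtain ⟨γ, δ, hdet⟩ : ∃ γ δ : F, α * δ - β * γ = 1 := by
    by_cases hα : α = 0
    · have hβ : β ≠ 0 := by
        rintro rfl
        apply hv0
        rw [hα, zero_smul, zero_smul, add_zero]
      exact ⟨-β⁻¹, 0, by rw [mul_zero, mul_neg, mul_inv_cancel₀ hβ]; ring⟩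
    · exact ⟨0, α⁻¹, by rw [mul_zero, mul_inv_cancel₀ hα]; ring⟩
  have hx : Has Q H u₁ u₂ := C.has u₁ hu₁ u₂ hu₂ hsu₁ hu12
  have hvv' := has_line hx hsu₂ hdet
  set v := α • u₁ + β • u₂ with hv
  set v' := γ • u₁ + δ • u₂ with hv'
  have hu₁v : u₁ = δ • v - β • v' := by
    have : u₁ = (α * δ - β * γ) • u₁ := by rw [hdet, one_smul]
    rw [this, hv, hv']
    module
  have hu₂v : u₂ = α • v' - γ • v := by
    have : u₂ = (α * δ - β * γ) • u₂ := by rw [hdet, one_smul]
    rw [this, hv, hv']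
    module
  have hsv : Q v = 0 := hvv'.sing
  have hvv'0 : polar Q v v' = 0 := hvv'.perp
  have hsv' : Q v' = 0 := by
    apply sing_of_span_pair hsu₁ hu12 hsu₂
    exact Submodule.mem_span_pair.2 ⟨γ, δ, rfl⟩
  -- `a'`, `b''`
  set s := polar Q v' b' with hs
  set t := - polar Q v' a with ht
  by_cases hst : s = 0 ∧ t = 0
  · -- `y` fixes `u₁`
    apply hynot
    have e1 : polar Q a u₁ = 0 := by
      rw [polar_comm, hu₁v, polar_sub_left, polar_smul_left, polar_smul_left, h1]
      have : polar Q v' a = 0 := by rw [← neg_eq_zero, ← ht]; exact hst.2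
      rw [this]; simp
    have e2 : polar Q b' u₁ = 0 := by
      rw [polar_comm, hu₁v, polar_sub_left, polar_smul_left, polar_smul_left, h2, ← hs, hst.1]
      simp
    refine C.stab_point hn hyH hu₁ hj₁ hsu₁ (a := 1) ?_
    rw [one_smul, hydef]
    exact siegel_fix _ _ e1 e2
  obtain ⟨s', t', hdet'⟩ : ∃ s' t' : F, s * t' - t * s' = 1 := by
    by_cases hs0 : s = 0
    · have ht0 : t ≠ 0 := fun h0 => hst ⟨hs0, h0⟩
      exact ⟨-t⁻¹, 0, by rw [mul_zero, mul_neg, mul_inv_cancel₀ ht0]; ring⟩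
    · exact ⟨0, s⁻¹, by rw [mul_zero, mul_inv_cancel₀ hs0]; ring⟩
  have ha'b'' := has_line hy hsb hdet'
  set a' := s • a + t • b' with ha'
  set b'' := s' • a + t' • b' with hb''
  have ha'0 : a' ≠ 0 := fun h0 => hst (hind s t h0)
  have hva' : polar Q v a' = 0 := by
    rw [ha', polar_add_right, polar_smul_right, polar_smul_right, h1, h2]; simp
  have hvb'' : polar Q v b'' = 0 := by
    rw [hb'', polar_add_right, polar_smul_right, polar_smul_right, h1, h2]; simp
  have hv'a' : polar Q v' a' = 0 := by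
    rw [ha', polar_add_right, polar_smul_right, polar_smul_right, ← hs]
    have : polar Q v' a = -t := by rw [ht, neg_neg]
    rw [this, smul_eq_mul, smul_eq_mul]; ring
  have hv'b'' : polar Q v' b'' = 1 := by
    rw [hb'', polar_add_right, polar_smul_right, polar_smul_right, ← hs]
    have : polar Q v' a = -t := by rw [ht, neg_neg]
    rw [this, smul_eq_mul, smul_eq_mul]
    linear_combination hdet'
  have hz := hvv'.comm ha'b'' hva' hv'a'
  rw [hvb'', hv'b'', mul_zero, add_zero, zero_smul, zero_sub, one_smul] at hz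
  have hz' : Has Q H a' v := by
    have := hz.neg
    rwa [neg_neg] at this
  have hsa' : Q a' = 0 := hz'.sing
  have ha'v : polar Q a' v = 0 := hz'.perp
  have haa' : polar Q a a' = 0 := by
    rw [ha', polar_add_right, polar_smul_right, polar_smul_right, hab, polar_self_of_sing hsa]
    simp
  have hb'a' : polar Q b' a' = 0 := by
    rw [ha', polar_add_right, polar_smul_right, polar_smul_right, polar_comm Q b' a, hab,
      polar_self_of_sing hsb]
    simp
  have hya' : y a' = a' := siegel_fix _ _ haa' hb'a'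
  have hyv : y v = v := siegel_fix _ _ (by rw [polar_comm]; exact h1) (by rw [polar_comm]; exact h2)
  have hz2 : siegel Q a' v hsa' ha'v ∈ H := hz'.mem _ _
  have hzu₁ : siegel Q a' v hsa' ha'v u₁ = u₁ := by
    apply siegel_fix
    · rw [hu₁v, polar_sub_right, polar_smul_right, polar_smul_right, ha'v, polar_comm Q a' v',
        hv'a']
      simp
    · rw [hu₁v, polar_sub_right, polar_smul_right, polar_smul_right, hvv'0,
        polar_self_of_sing hsv]
      simp
  have hzR : siegel Q a' v hsa' ha'v ∈ stR b F₀ :=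
    C.stab_point hn hz2 hu₁ hj₁ hsu₁ (a := 1) (by rw [one_smul, hzu₁])
  apply hynot
  by_cases hdep : ∃ c : F, a' = c • v
  · -- the lines meet: `y` stabilises the line of `u₁, u₂`
    obtain ⟨c, hc⟩ := hdep
    have hyv' : y v' = v' - c • v := by
      rw [hydef, siegel_apply, hsb, polar_comm Q a v', polar_comm Q b' v', ← hs]
      have e1 : polar Q v' a = -t := by rw [ht, neg_neg]
      rw [e1, ← hc, ha']
      module
    have hline : ∀ x ∈ Submodule.span F {u₁, u₂}, y x ∈ Submodule.span F {u₁, u₂} := by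
      have hvm : v ∈ Submodule.span F {u₁, u₂} := Submodule.mem_span_pair.2 ⟨α, β, rfl⟩
      have hv'm : v' ∈ Submodule.span F {u₁, u₂} := Submodule.mem_span_pair.2 ⟨γ, δ, rfl⟩
      intro x hx
      obtain ⟨m, n, rfl⟩ := Submodule.mem_span_pair.1 hx
      have e1 : y u₁ = δ • v - β • (v' - c • v) := by
        conv_lhs => rw [hu₁v]
        rw [map_sub, map_smul, map_smul, hyv, hyv']
      have e2 : y u₂ = α • (v' - c • v) - γ • v := by
        conv_lhs => rw [hu₂v]
        rw [map_sub, map_smul, map_smul, hyv, hyv']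
      rw [map_add, map_smul, map_smul, e1, e2]
      have hm := Submodule.sub_mem _ hv'm (Submodule.smul_mem _ c hvm)
      exact Submodule.add_mem _
        (Submodule.smul_mem _ _ (Submodule.sub_mem _ (Submodule.smul_mem _ _ hvm)
          (Submodule.smul_mem _ _ hm)))
        (Submodule.smul_mem _ _ (Submodule.sub_mem _ (Submodule.smul_mem _ _ hm)
          (Submodule.smul_mem _ _ hvm)))
    have : Module.Finite F V := Module.Finite.of_basis b
    have hst := Cfsg.Agent.H883.Bridge.mem_stab_of_le hline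
    have hratD : RatSub b F₀ (Submodule.span F {u₁, u₂}) := by
      refine ratSub_span ?_
      rintro x (rfl | hx)
      · exact hu₁
      · rw [Set.mem_singleton_iff] at hx
        rw [hx]; exact hu₂
    refine C.line hn hyH hj₁ hsu₁ hu12 hsu₂ hratD ?_
    have e : (Submodule.span F {u₁, u₂}).comap (y : V →ₗ[F] V) = Submodule.span F {u₁, u₂} := by
      ext x
      exact (hst x).symm
    rw [e]
    exact hratD
  · push Not at hdep
    have hdep' : ∀ c : F, v ≠ c • a' := by
      intro c hc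
      have hc0 : c ≠ 0 := by
        rintro rfl
        apply hv0
        rw [hc, zero_smul]
      apply hdep c⁻¹
      rw [hc, smul_smul, inv_mul_cancel₀ hc0, one_smul]
    have hD := ratSub_of_siegel C.nondeg hsa' ha'v hsv hdep hdep'
      (fun x hx => map_rat_of_fix hzR hu₁ hj₁ hzu₁ hx)
    refine C.line hn hyH ha'0 hsa' ha'v hsv hD ?_
    have e := comap_span_pair y a' v
    rw [hya', hyv] at e
    rw [e]
    exact hD

end Cfsg.Agent.H888.Rat
end

-- part: H888/StrongP
section
/-!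
A self-normalising noncyclic abelian `p`-subgroup `P` of `G` all of whose nonidentity elements have their
centraliser in `M` forces `G ≤ M` (Burnside transfer and coprime generation).
-/

set_option autoImplicit false

namespace Cfsg.Agent.H888.StrongP

/-- **A self-normalising noncyclic abelian `p`-subgroup with centralisers in `M`.** -/
theorem le_of_self_normalizing {X : Type*} [Group X] [Finite X] {p : ℕ} [Fact p.Prime]
    (P G M : Subgroup X) (hPG : P ≤ G) (hP : IsPGroup p P)
    (hcomm : ∀ a ∈ P, ∀ c ∈ P, a * c = c * a) (hcyc : ¬ IsCyclic P) (hPM : P ≤ M)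
    (hcent : ∀ g ∈ P, g ≠ 1 → ∀ n ∈ G, n * g = g * n → n ∈ M)
    (hnorm : ∀ n ∈ G, (∀ g ∈ P, n * g * n⁻¹ ∈ P) → n ∈ P) : G ≤ M := by
  classical
  -- `P` inside `G`
  set P' : Subgroup G := P.subgroupOf G with hP'
  have hP'p : IsPGroup p P' := hP.comap_subtype
  obtain ⟨S, hS⟩ := hP'p.exists_le_sylow
  have hSP : (S : Subgroup G) = P' := by
    by_contra hne
    have hnil : Group.IsNilpotent (S : Subgroup G) := S.isPGroup'.isNilpotent
    have hnc := Group.normalizerCondition_of_isNilpotent (G := (S : Subgroup G))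
    have hlt : P'.subgroupOf (S : Subgroup G) < ⊤ := by
      rw [lt_top_iff_ne_top]
      intro h
      rw [Subgroup.subgroupOf_eq_top] at h
      exact hne (le_antisymm h hS)
    have h1 := hnc _ hlt
    obtain ⟨n, hn, hn'⟩ := SetLike.exists_of_lt h1
    apply hn'
    rw [Subgroup.mem_subgroupOf, Subgroup.mem_subgroupOf]
    refine hnorm _ (n : G).2 fun g hg => ?_
    have hgG : g ∈ G := hPG hg
    have hgS : (⟨g, hgG⟩ : G) ∈ (S : Subgroup G) := hS (by rw [hP', Subgroup.mem_subgroupOf]; exact hg)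
    have h2 := (Subgroup.mem_normalizer_iff.1 hn (⟨⟨g, hgG⟩, hgS⟩ : (S : Subgroup G))).1
      (by rw [Subgroup.mem_subgroupOf, Subgroup.mem_subgroupOf]; exact hg)
    rw [Subgroup.mem_subgroupOf, Subgroup.mem_subgroupOf] at h2
    exact h2
  have hmemS : ∀ x : G, x ∈ S ↔ (x : X) ∈ P := by
    intro x
    have : x ∈ S ↔ x ∈ (S : Subgroup G) := Iff.rfl
    rw [this, hSP, Subgroup.mem_subgroupOf]
  have hN : Subgroup.normalizer (S : Set G) ≤ Subgroup.centralizer (S : Set G) := by
    intro n hn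
    have hnP : (n : X) ∈ P := by
      refine hnorm _ n.2 fun g hg => ?_
      have h1 := (Subgroup.mem_normalizer_iff.1 hn (⟨g, hPG hg⟩ : G)).1 ((hmemS _).2 hg)
      exact (hmemS _).1 h1
    rw [Subgroup.mem_centralizer_iff]
    intro g hg
    exact Subtype.ext (hcomm _ ((hmemS g).1 hg) _ hnP)
  set K := (MonoidHom.transferSylow S hN).ker with hK
  have hKc : K.IsComplement' (S : Subgroup G) := MonoidHom.ker_transferSylow_isComplement' S hN
  have hKp : ¬ p ∣ Nat.card K := MonoidHom.not_dvd_card_ker_transferSylow S hN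
  have hScomm : IsMulCommutative (S : Subgroup G) :=
    ⟨⟨fun a c => Subtype.ext (Subtype.ext (hcomm _ ((hmemS a).1 a.2) _ ((hmemS c).1 c.2)))⟩⟩
  have hScyc : ¬ IsCyclic (S : Subgroup G) := by
    intro h
    apply hcyc
    rw [hSP] at h
    exact (MulEquiv.isCyclic (Subgroup.subgroupOfEquivOfLe hPG)).1 h
  have hnorm' : (S : Subgroup G) ≤ Subgroup.normalizer (K : Set G) := by
    have : K.Normal := MonoidHom.normal_ker _
    rw [Subgroup.normalizer_eq_top_iff.2 this]
    exact le_top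
  have hcop : (Nat.card (S : Subgroup G)).Coprime (Nat.card K) := by
    obtain ⟨m, hm⟩ := IsPGroup.iff_card.1 S.isPGroup'
    rw [hm]
    exact Nat.Coprime.pow_left _ ((Nat.Prime.coprime_iff_not_dvd Fact.out).2 hKp)
  have hgen := Cfsg.Agent.S0058.result (S : Subgroup G) K hScyc hnorm' hcop
  have hKM : K ≤ M.subgroupOf G := by
    rw [← hgen]
    refine iSup₂_le fun a ha n hn => ?_
    rw [Subgroup.mem_subgroupOf]
    refine hcent (a : X) ((hmemS a).1 ha.1) ?_ (n : X) n.2 ?_
    · intro h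
      exact ha.2 (Subtype.ext h)
    · have := Subgroup.mem_centralizer_iff.1 hn.2 a rfl
      exact (congrArg Subtype.val this).symm
  have hSM : (S : Subgroup G) ≤ M.subgroupOf G := by
    intro x hx
    rw [Subgroup.mem_subgroupOf]
    exact hPM ((hmemS x).1 hx)
  have htop : (⊤ : Subgroup G) ≤ M.subgroupOf G := by
    rw [← hKc.sup_eq_top]
    exact sup_le hKM hSM
  rw [top_le_iff, Subgroup.subgroupOf_eq_top] at htop
  exact htop

end Cfsg.Agent.H888.StrongP
end

-- part: H888/RatMain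
section
/-!
A thin overgroup of the normaliser of a rational structure is contained in it.
-/

set_option autoImplicit false

namespace Cfsg.Agent.H888.Rat

open QuadraticMap hiding proj
open Cfsg.Agent.LieClassical.OrthCore Cfsg.Agent.LieClassical.OrthTrans
  Cfsg.Agent.LieClassical.OrthFinite Cfsg.Agent.H883.Root Cfsg.Agent.H883.Sub

variable {F V : Type*} [Field F] [AddCommGroup V] [Module F V] {ι : Type*}
variable {b : Module.Basis ι F V} {F₀ : Subfield F} {Q : QuadraticForm F V}
variable {H : Subgroup (V ≃ₗ[F] V)}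

/-- Three elements of `F₀ + F₀ c` are linearly dependent over `F₀`. -/
theorem exists_relation (F₀ : Subfield F) {c : F} (h : ∀ d : F, ∃ x ∈ F₀, ∃ y ∈ F₀, d = x + y * c)
    (k : Fin 3 → F) : ∃ m : Fin 3 → F, (∀ i, m i ∈ F₀) ∧ m ≠ 0 ∧ ∑ i, m i * k i = 0 := by
  choose x hx y hy hxy using h
  let w : Fin 3 → (F₀ × F₀) := fun i => (⟨x (k i), hx _⟩, ⟨y (k i), hy _⟩)
  have hdep : ¬ LinearIndependent F₀ w := by
    intro hli
    have := hli.fintype_card_le_finrank
    rw [Module.finrank_prod, Module.finrank_self, Fintype.card_fin] at this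
    omega
  rw [Fintype.not_linearIndependent_iff] at hdep
  obtain ⟨g, hg, i, hi⟩ := hdep
  refine ⟨fun i => (g i : F), fun i => (g i).2, ?_, ?_⟩
  · intro h0
    apply hi
    have := congrFun h0 i
    exact Subtype.ext this
  · have h1 : ∑ i, (g i : F) * x (k i) = 0 := by
      have := congrArg (fun z : F₀ × F₀ => ((z.1 : F₀) : F)) hg
      simpa [w, Fin.sum_univ_three] using this
    have h2 : ∑ i, (g i : F) * y (k i) = 0 := by
      have := congrArg (fun z : F₀ × F₀ => ((z.2 : F₀) : F)) hg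
      simpa [w, Fin.sum_univ_three] using this
    have h3 : ∀ i, (g i : F) * k i = (g i : F) * x (k i) + ((g i : F) * y (k i)) * c := by
      intro i
      conv_lhs => rw [hxy (k i)]
      ring
    rw [Finset.sum_congr rfl fun i _ => h3 i, Finset.sum_add_distrib, h1, ← Finset.sum_mul, h2]
    ring

/-- Three mutually orthogonal rational hyperbolic pairs. -/
structure Frame (Q : QuadraticForm F V) (b : Module.Basis ι F V) (F₀ : Subfield F)
    (e f : Fin 3 → V) : Prop where
  e_mem : ∀ i, e i ∈ rat b F₀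
  f_mem : ∀ i, f i ∈ rat b F₀
  ee : ∀ i j, polar Q (e i) (e j) = 0
  ef : ∀ i j, polar Q (e i) (f j) = if i = j then 1 else 0
  Qe : ∀ i, Q (e i) = 0
  Qf : ∀ i, Q (f i) = 0

theorem exists_frame [Fintype ι] [Finite F] (hQ : Nondeg Q) (hR : IsRat Q b F₀)
    (hn : 7 ≤ Fintype.card ι) : ∃ e f : Fin 3 → V, Frame Q b F₀ e f := by
  obtain ⟨e₁, he₁, f₁, hf₁, h₁, -, -⟩ := exists_hyp_rat hQ hR (m := 0) ![]
    (by intro i; exact i.elim0) (by omega)
  obtain ⟨e₂, he₂, f₂, hf₂, h₂, a2, b2⟩ := exists_hyp_rat hQ hR ![e₁, f₁]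
    (by intro i; fin_cases i <;> assumption) (by omega)
  obtain ⟨e₃, he₃, f₃, hf₃, h₃, ⟨a30, a31, a32, a33⟩, ⟨b30, -, b32, -⟩⟩ :=
    exists_hyp_rat_perp2 hQ hR hn he₁ hf₁ h₁ he₂ hf₂ h₂ (a2 0) (b2 0) (a2 1) (b2 1)
  have a20 : polar Q e₁ e₂ = 0 := a2 0
  have a21 : polar Q f₁ e₂ = 0 := a2 1
  have b20 : polar Q e₁ f₂ = 0 := b2 0
  refine ⟨![e₁, e₂, e₃], ![f₁, f₂, f₃], ⟨?_, ?_, ?_, ?_, ?_, ?_⟩⟩
  · intro i; fin_cases i <;> assumption
  · intro i; fin_cases i <;> assumption
  · intro i j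
    fin_cases i <;> fin_cases j <;>
      simp only [Fin.mk_zero, Fin.mk_one, Fin.reduceFinMk, Matrix.cons_val_zero,
        Matrix.cons_val_one, Matrix.cons_val, Fin.isValue] <;>
      first
        | exact polar_self_of_sing h₁.left
        | exact polar_self_of_sing h₂.left
        | exact polar_self_of_sing h₃.left
        | assumption
        | (rw [polar_comm]; assumption)
  · intro i j
    fin_cases i <;> fin_cases j <;>
      simp only [Fin.mk_zero, Fin.mk_one, Fin.reduceFinMk, Matrix.cons_val_zero,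
        Matrix.cons_val_one, Matrix.cons_val, Fin.isValue, if_true, reduceIte,
        Fin.reduceEq] <;>
      first
        | exact h₁.pair
        | exact h₂.pair
        | exact h₃.pair
        | assumption
        | (rw [polar_comm]; assumption)
  · intro i
    fin_cases i
    exacts [h₁.left, h₂.left, h₃.left]
  · intro i
    fin_cases i
    exacts [h₁.right, h₂.right, h₃.right]

namespace Frame

variable {e f : Fin 3 → V}

theorem fe (Fr : Frame Q b F₀ e f) (i j : Fin 3) :
    polar Q (f j) (e i) = if i = j then 1 else 0 := by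
  rw [polar_comm, Fr.ef]

/-- The totally singular plane. -/
def pl (e : Fin 3 → V) : Submodule F V := Submodule.span F (Set.range e)

theorem e_mem_pl (i : Fin 3) : e i ∈ pl (F := F) e := Submodule.subset_span ⟨i, rfl⟩

theorem pl_le_perp (Fr : Frame Q b F₀ e f) : pl (F := F) e ≤ perp Q (pl e) := by
  rw [le_perp_iff]
  have h1 : ∀ w ∈ pl (F := F) e, ∀ i, polar Q w (e i) = 0 := by
    intro w hw i
    have : pl (F := F) e ≤ LinearMap.ker ((polarBilin Q).flip (e i)) := by
      rw [pl, Submodule.span_le]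
      rintro _ ⟨j, rfl⟩
      exact Fr.ee j i
    exact this hw
  intro w hw w' hw'
  have : pl (F := F) e ≤ LinearMap.ker (polarBilin Q w) := by
    rw [pl, Submodule.span_le]
    rintro _ ⟨j, rfl⟩
    exact h1 w hw j
  exact this hw'

theorem mem_perp_iff {v : V} : v ∈ perp Q (pl e) ↔ ∀ i, polar Q (e i) v = 0 := by
  constructor
  · intro h i
    exact mem_perp.1 h _ (e_mem_pl i)
  · intro h
    rw [mem_perp]
    intro w hw
    have : pl (F := F) e ≤ LinearMap.ker ((polarBilin Q).flip v) := by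
      rw [pl, Submodule.span_le]
      rintro _ ⟨j, rfl⟩
      exact h j
    exact this hw

theorem exists_coord (Fr : Frame Q b F₀ e f) {w : V} (hw : w ∈ pl (F := F) e) :
    w = ∑ i, polar Q (f i) w • e i := by
  obtain ⟨c, rfl⟩ := (Submodule.mem_span_range_iff_exists_fun F).1 hw
  refine Finset.sum_congr rfl fun i _ => ?_
  congr 1
  rw [polar_sum_right]
  simp_rw [polar_smul_right, Fr.fe]
  simp

theorem Q_pl (Fr : Frame Q b F₀ e f) {w : V} (hw : w ∈ pl (F := F) e) : Q w = 0 := by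
  rw [Fr.exists_coord hw, Fin.sum_univ_three]
  simp only [Q_add, QuadraticMap.map_smul, polar_add_left, polar_smul_left, polar_smul_right,
    Fr.Qe, Fr.ee]
  simp

theorem finrank_pl_le : Module.finrank F (pl (F := F) e) ≤ 3 := by
  have := finrank_range_le_card (R := F) e
  rwa [Fintype.card_fin] at this

theorem ratSub_pl (Fr : Frame Q b F₀ e f) : RatSub b F₀ (pl (F := F) e) :=
  ratSub_span (by rintro _ ⟨i, rfl⟩; exact Fr.e_mem i)

end Frame

open Cfsg.Agent.H888.Rat.Frame

/-- The elements of `H` fixing the orthogonal space of the plane pointwise. -/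
def radP (Q : QuadraticForm F V) (H : Subgroup (V ≃ₗ[F] V)) (e : Fin 3 → V) :
    Subgroup (V ≃ₗ[F] V) where
  carrier := {g | g ∈ H ∧ ∀ v, (∀ i, polar Q (e i) v = 0) → g v = v}
  mul_mem' {g h} hg hh := ⟨H.mul_mem hg.1 hh.1, fun v hv => by
    show g (h v) = v
    rw [hh.2 v hv, hg.2 v hv]⟩
  one_mem' := ⟨H.one_mem, fun _ _ => rfl⟩
  inv_mem' {g} hg := ⟨H.inv_mem hg.1, fun v hv => by
    have h1 := hg.2 v hv
    have h2 : g⁻¹ (g v) = v := LinearEquiv.symm_apply_apply g v
    rwa [h1] at h2⟩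

variable [Fintype ι] [Finite F]

section Rad

variable {e f : Fin 3 → V}

omit [Fintype ι] in
theorem radP_sub [FiniteDimensional F V] (C : Ctx Q b F₀ H) {g : V ≃ₗ[F] V}
    (hg : g ∈ radP Q H e) (w : V) : g w - w ∈ pl (F := F) e := by
  rw [← perp_perp C.nondeg (pl e), mem_perp]
  intro x hx
  have hx' := hg.2 x (mem_perp_iff.1 hx)
  have h1 := polar_map (C.isom hg.1) x w
  rw [hx'] at h1
  rw [polar_sub_right, h1, sub_self]

omit [Fintype ι] in
theorem radP_pow [FiniteDimensional F V] (C : Ctx Q b F₀ H) (Fr : Frame Q b F₀ e f)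
    {g : V ≃ₗ[F] V} (hg : g ∈ radP Q H e) (m : ℕ) (w : V) :
    (g ^ m) w = w + (m : F) • (g w - w) := by
  induction m with
  | zero => simp
  | succ m ih =>
    have h1 : (g ^ (m + 1)) w = g ((g ^ m) w) := by rw [pow_succ']; rfl
    have h2 : g (g w - w) = g w - w := by
      apply hg.2
      exact mem_perp_iff.1 (Fr.pl_le_perp (radP_sub C hg w))
    rw [h1, ih, map_add, map_smul, h2]
    push_cast
    module

omit [Fintype ι] in
theorem radP_comm [FiniteDimensional F V] (C : Ctx Q b F₀ H) (Fr : Frame Q b F₀ e f)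
    {g h : V ≃ₗ[F] V} (hg : g ∈ radP Q H e) (hh : h ∈ radP Q H e) : g * h = h * g := by
  ext w
  show g (h w) = h (g w)
  have h1 : g (h w - w) = h w - w := hg.2 _ (mem_perp_iff.1 (Fr.pl_le_perp (radP_sub C hh w)))
  have h2 : h (g w - w) = g w - w := hh.2 _ (mem_perp_iff.1 (Fr.pl_le_perp (radP_sub C hg w)))
  have e1 : g (h w) = g (h w - w) + g w := by rw [map_sub]; abel
  have e2 : h (g w) = h (g w - w) + h w := by rw [map_sub]; abel
  rw [e1, e2, h1, h2]
  abel

theorem siegel_mem_radP (C : Ctx Q b F₀ H) (Fr : Frame Q b F₀ e f) (i j : Fin 3) :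
    siegel Q (e i) (e j) (Fr.Qe i) (Fr.ee i j) ∈ radP Q H e := by
  refine ⟨(C.has (e i) (Fr.e_mem i) (e j) (Fr.e_mem j) (Fr.Qe i) (Fr.ee i j)).mem _ _,
    fun v hv => siegel_fix _ _ (hv i) (hv j)⟩

omit [Fintype ι] in
theorem radP_not_cyclic [FiniteDimensional F V] [Fintype ι] (C : Ctx Q b F₀ H)
    (Fr : Frame Q b F₀ e f) : ¬ IsCyclic (radP Q H e) := by
  intro hc
  have : Finite (V ≃ₗ[F] V) := by
    have : Finite V := Module.finite_of_finite F
    exact Finite.of_injective (fun g : V ≃ₗ[F] V => (g : V → V)) DFunLike.coe_injective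
  obtain ⟨⟨g, hg⟩, hgen⟩ := IsCyclic.exists_monoid_generator (α := radP Q H e)
  obtain ⟨i, hi⟩ := hgen ⟨_, siegel_mem_radP C Fr 0 1⟩
  obtain ⟨j, hj⟩ := hgen ⟨_, siegel_mem_radP C Fr 0 2⟩
  have hi' : g ^ i = siegel Q (e 0) (e 1) (Fr.Qe 0) (Fr.ee 0 1) := congrArg Subtype.val hi
  have hj' : g ^ j = siegel Q (e 0) (e 2) (Fr.Qe 0) (Fr.ee 0 2) := congrArg Subtype.val hj
  have e1 : (i : F) • (g (f 0) - f 0) = e 1 := by
    have h1 := radP_pow C Fr hg i (f 0)
    rw [hi', siegel_apply, Fr.Qe, Fr.ef, Fr.ef] at h1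
    simp only [if_true, Fin.isValue, one_ne_zero, if_false, one_smul, zero_smul, zero_mul,
      sub_zero] at h1
    exact (add_left_cancel h1).symm
  have e2 : (j : F) • (g (f 0) - f 0) = e 2 := by
    have h1 := radP_pow C Fr hg j (f 0)
    rw [hj', siegel_apply, Fr.Qe, Fr.ef, Fr.ef] at h1
    simp only [if_true, Fin.isValue, if_false, one_smul, zero_smul, zero_mul,
      sub_zero, Fin.reduceEq] at h1
    exact (add_left_cancel h1).symm
  have h3 : (j : F) • e 1 = (i : F) • e 2 := by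
    rw [← e1, ← e2, smul_smul, smul_smul, mul_comm]
  have h4 : (j : F) = 0 := by
    have := congrArg (fun z => polar Q (f 1) z) h3
    simp only [polar_smul_right, Fr.fe] at this
    simpa using this
  rw [h4, zero_smul] at e2
  have h5 := Fr.ef 2 2
  rw [← e2, polar_zero_left] at h5
  simp at h5

theorem radP_le_stR (C : Ctx Q b F₀ H) (hn : 7 ≤ Fintype.card ι) (Fr : Frame Q b F₀ e f)
    {g : V ≃ₗ[F] V} (hg : g ∈ radP Q H e) : g ∈ stR b F₀ := by
  have h0 : e 0 ≠ 0 := by
    intro h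
    have := Fr.ef 0 0
    rw [h, polar_zero_left] at this
    simp at this
  refine C.stab_point hn hg.1 (Fr.e_mem 0) h0 (Fr.Qe 0) (a := 1) ?_
  rw [one_smul]
  exact hg.2 _ fun i => Fr.ee i 0

theorem radP_map_rat (C : Ctx Q b F₀ H) (hn : 7 ≤ Fintype.card ι) (Fr : Frame Q b F₀ e f)
    {g : V ≃ₗ[F] V} (hg : g ∈ radP Q H e) {v : V} (hv : v ∈ rat b F₀) : g v ∈ rat b F₀ := by
  have h0 : e 0 ≠ 0 := by
    intro h
    have := Fr.ef 0 0
    rw [h, polar_zero_left] at this
    simp at this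
  exact map_rat_of_fix (radP_le_stR C hn Fr hg) (Fr.e_mem 0) h0 (hg.2 _ fun i => Fr.ee i 0) hv

/-- Centralisers of nonidentity elements of the radical group. -/
theorem radP_cent (C : Ctx Q b F₀ H) (hn : 7 ≤ Fintype.card ι) (Fr : Frame Q b F₀ e f)
    {g : V ≃ₗ[F] V} (hg : g ∈ radP Q H e) (hg1 : g ≠ 1) {n : V ≃ₗ[F] V} (hnH : n ∈ H)
    (hcomm : n * g = g * n) : n ∈ stR b F₀ := by
  have : Module.Finite F V := Module.Finite.of_basis b
  have hfin : Module.finrank F V = Fintype.card ι := Module.finrank_eq_card_basis b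
  set D := LinearMap.range (g.toLinearMap - LinearMap.id) with hD
  have hDpl : D ≤ pl (F := F) e := by
    rintro _ ⟨w, rfl⟩
    exact radP_sub C hg w
  have hD0 : D ≠ ⊥ := by
    intro h0
    apply hg1
    ext w
    have h1 : (g.toLinearMap - LinearMap.id : V →ₗ[F] V) w ∈ D := ⟨w, rfl⟩
    rw [h0, Submodule.mem_bot] at h1
    exact sub_eq_zero.1 h1
  have hRat : RatSub b F₀ D := ratSub_range fun v hv => radP_map_rat C (by omega) Fr hg hv
  have hst : ∀ x ∈ D, n x ∈ D := by
    rintro _ ⟨w, rfl⟩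
    refine ⟨n w, ?_⟩
    show g (n w) - n w = n (g w - w)
    have h1 : n (g w) = g (n w) := LinearEquiv.congr_fun hcomm w
    rw [map_sub, h1]
  have hst' := Cfsg.Agent.H883.Bridge.mem_stab_of_le hst
  refine C.stab_sub (by omega) hnH hD0 (fun x hx => Fr.Q_pl (hDpl hx)) ?_ hRat ?_
  · apply not_perp_le C.nondeg
    have h1 := Submodule.finrank_mono hDpl
    have h2 := finrank_pl_le (F := F) (e := e)
    omega
  · have e : D.comap (n : V →ₗ[F] V) = D := by
      ext x
      exact (hst' x).symm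
    rw [e]
    exact hRat

end Rad

/-- **A thin overgroup of the normaliser of a rational structure is contained in it.** -/
theorem Ctx.le_stR (C : Ctx Q b F₀ H) (hn : 7 ≤ Fintype.card ι) {r : ℕ} (hr : r.Prime)
    (hcard : Nat.card F = Nat.card F₀ ^ r) : H ≤ stR b F₀ := by
  intro h hh
  by_contra hnot
  have hmf : Module.Finite F V := Module.Finite.of_basis b
  have hfin : Module.finrank F V = Fintype.card ι := Module.finrank_eq_card_basis b
  have hVfin : Finite V := Module.finite_of_finite F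
  have hGfin : Finite (V ≃ₗ[F] V) :=
    Finite.of_injective (fun g : V ≃ₗ[F] V => (g : V → V)) DFunLike.coe_injective
  obtain ⟨e, f, Fr⟩ := exists_frame C.nondeg C.isRat hn
  have hhO := C.isom hh
  have hne : ∀ i, e i ≠ 0 := by
    intro i h0
    have := Fr.ef i i
    rw [h0, polar_zero_left, if_pos rfl] at this
    exact zero_ne_one this
  have hi₁ : ∀ c : F, e 0 ≠ c • e 1 := by
    intro c hc
    have := Fr.ef 0 0
    rw [hc, polar_smul_left, Fr.ef] at this
    simp at this
  have hi₂ : ∀ c : F, e 1 ≠ c • e 0 := by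
    intro c hc
    have := Fr.ef 1 1
    rw [hc, polar_smul_left, Fr.ef] at this
    simp at this
  set a := h (e 0) with ha
  set b' := h (e 1) with hb'
  have hsa : Q a = 0 := by rw [ha, mem_O.1 hhO, Fr.Qe]
  have hab : polar Q a b' = 0 := by rw [ha, hb', polar_map hhO, Fr.ee]
  have hynot : siegel Q a b' hsa hab ∉ stR b F₀ :=
    C.root_not_mem (by omega) hh hnot (Fr.e_mem 0) (Fr.e_mem 1) (Fr.Qe 0) (Fr.Qe 1) (Fr.ee 0 1)
      hi₁ hi₂ hsa hab
  have hyH : siegel Q a b' hsa hab ∈ H :=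
    ((C.has (e 0) (Fr.e_mem 0) (e 1) (Fr.e_mem 1) (Fr.Qe 0) (Fr.ee 0 1)).map hhO hh).mem _ _
  have hopp : ∀ {u₁ u₂ : V}, u₁ ∈ rat b F₀ → u₂ ∈ rat b F₀ → Q u₁ = 0 → Q u₂ = 0 →
      polar Q u₁ u₂ = 0 → u₁ ≠ 0 → ∀ {α β : F}, polar Q (α • u₁ + β • u₂) a = 0 →
      polar Q (α • u₁ + β • u₂) b' = 0 → α • u₁ + β • u₂ = 0 := by
    intro u₁ u₂ h1 h2 h3 h4 h5 h6 α β h7 h8
    exact C.opp (by omega) hh hnot (Fr.e_mem 0) (Fr.e_mem 1) (Fr.Qe 0) (Fr.Qe 1) (Fr.ee 0 1)
      hi₁ hi₂ h1 h2 h3 h4 h5 h6 h7 h8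
  -- pairings
  set A : Fin 3 → F := fun i => polar Q (e i) a with hA
  set B : Fin 3 → F := fun i => polar Q (e i) b' with hB
  have hAi : ∀ i, polar Q (e i) a = A i := fun _ => rfl
  have hBi : ∀ i, polar Q (e i) b' = B i := fun _ => rfl
  -- the determinant for the line `e 0, e 1` is nonzero
  have hdet : A 0 * B 1 - A 1 * B 0 ≠ 0 := by
    intro h0
    by_cases hz : A 0 = 0 ∧ A 1 = 0
    · -- then combine using `B`
      have h1 := hopp (Fr.e_mem 0) (Fr.e_mem 1) (Fr.Qe 0) (Fr.Qe 1) (Fr.ee 0 1) (hne 0)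
        (α := B 1) (β := -B 0)
        (by rw [polar_add_left, polar_smul_left, polar_smul_left, hAi, hAi, hz.1, hz.2]; simp)
        (by rw [polar_add_left, polar_smul_left, polar_smul_left, hBi, hBi]
            simp only [smul_eq_mul]; ring)
      have hB1 : B 1 = 0 := by
        have := congrArg (fun z => polar Q (f 0) z) h1
        simp only [polar_add_right, polar_smul_right, Fr.fe, polar_zero_right] at this
        simpa using this
      have h2 := hopp (Fr.e_mem 0) (Fr.e_mem 1) (Fr.Qe 0) (Fr.Qe 1) (Fr.ee 0 1) (hne 0)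
        (α := 0) (β := 1)
        (by rw [zero_smul, zero_add, one_smul, hAi, hz.2])
        (by rw [zero_smul, zero_add, one_smul, hBi, hB1])
      rw [zero_smul, zero_add, one_smul] at h2
      exact hne 1 h2
    · have h1 := hopp (Fr.e_mem 0) (Fr.e_mem 1) (Fr.Qe 0) (Fr.Qe 1) (Fr.ee 0 1) (hne 0)
        (α := A 1) (β := -A 0)
        (by rw [polar_add_left, polar_smul_left, polar_smul_left, hAi, hAi]
            simp only [smul_eq_mul]; ring)
        (by rw [polar_add_left, polar_smul_left, polar_smul_left, hBi, hBi]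
            simp only [smul_eq_mul]; linear_combination -h0)
      apply hz
      constructor
      · have := congrArg (fun z => polar Q (f 1) z) h1
        simp only [polar_add_right, polar_smul_right, Fr.fe, polar_zero_right] at this
        simpa using this
      · have := congrArg (fun z => polar Q (f 0) z) h1
        simp only [polar_add_right, polar_smul_right, Fr.fe, polar_zero_right] at this
        simpa using this
  -- the vector `k`
  set k : Fin 3 → F := ![A 1 * B 2 - A 2 * B 1, A 2 * B 0 - A 0 * B 2, A 0 * B 1 - A 1 * B 0]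
    with hk
  have hk0 : k 0 = A 1 * B 2 - A 2 * B 1 := rfl
  have hk1 : k 1 = A 2 * B 0 - A 0 * B 2 := rfl
  have hk2 : k 2 = A 0 * B 1 - A 1 * B 0 := rfl
  set kv : V := k 0 • e 0 + k 1 • e 1 + k 2 • e 2 with hkv
  have hkva : polar Q kv a = 0 := by
    rw [hkv, polar_add_left, polar_add_left, polar_smul_left, polar_smul_left, polar_smul_left,
      hAi, hAi, hAi, hk0, hk1, hk2]
    simp only [smul_eq_mul]; ring
  have hkvb : polar Q kv b' = 0 := by
    rw [hkv, polar_add_left, polar_add_left, polar_smul_left, polar_smul_left, polar_smul_left,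
      hBi, hBi, hBi, hk0, hk1, hk2]
    simp only [smul_eq_mul]; ring
  have hkpl : kv ∈ pl (F := F) e := by
    rw [hkv]
    exact Submodule.add_mem _ (Submodule.add_mem _ (Submodule.smul_mem _ _ (e_mem_pl 0))
      (Submodule.smul_mem _ _ (e_mem_pl 1))) (Submodule.smul_mem _ _ (e_mem_pl 2))
  have hfk : ∀ i, polar Q (f i) kv = k i := by
    intro i
    rw [hkv]
    simp only [polar_add_right, polar_smul_right, Fr.fe]
    fin_cases i <;> simp
  have hkv0 : kv ≠ 0 := by
    intro h0
    have := hfk 2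
    rw [h0, polar_zero_right] at this
    exact hdet (by rw [← hk2, ← this])
  -- `k` is `F₀`-independent
  have hind : ∀ m : Fin 3 → F, (∀ i, m i ∈ F₀) → ∑ i, m i * k i = 0 → m = 0 := by
    intro m hm hsum
    by_contra hm0
    obtain ⟨i, hi⟩ := Function.ne_iff.1 hm0
    rw [Pi.zero_apply] at hi
    -- the two other indices
    obtain ⟨j, l, hjl, hij, hil, hall⟩ : ∃ j l : Fin 3, j ≠ l ∧ i ≠ j ∧ i ≠ l ∧
        ∀ g : Fin 3 → V, ∑ x, g x = g i + g j + g l := by
      fin_cases i
      · exact ⟨1, 2, by decide, by decide, by decide, fun g => by rw [Fin.sum_univ_three]; rfl⟩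
      · exact ⟨0, 2, by decide, by decide, by decide, fun g => by
          rw [Fin.sum_univ_three]; show g 0 + g 1 + g 2 = g 1 + g 0 + g 2; abel⟩
      · exact ⟨0, 1, by decide, by decide, by decide, fun g => by
          rw [Fin.sum_univ_three]; show g 0 + g 1 + g 2 = g 2 + g 0 + g 1; abel⟩
    have hall' : ∑ x, m x * k x = m i * k i + m j * k j + m l * k l := by
      have hn2 : (Finset.univ : Finset (Fin 3)) = {i, j, l} := by
        symm
        apply Finset.eq_univ_of_card
        rw [Finset.card_insert_of_notMem (by simp [hij, hil]), Finset.card_pair hjl]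
        rfl
      rw [hn2, Finset.sum_insert (by simp [hij, hil]), Finset.sum_pair hjl]
      ring
    rw [hall'] at hsum
    have hki : k i = -((m i)⁻¹ * m j) * k j - ((m i)⁻¹ * m l) * k l := by
      have h1 : m i * k i = -(m j * k j + m l * k l) := by linear_combination hsum
      have h2 : k i = (m i)⁻¹ * (m i * k i) := by
        rw [← mul_assoc, inv_mul_cancel₀ hi, one_mul]
      rw [h2, h1]; ring
    set s := (m i)⁻¹ * m j with hs
    set t := (m i)⁻¹ * m l with ht
    have hsF : s ∈ F₀ := F₀.mul_mem (F₀.inv_mem (hm i)) (hm j)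
    have htF : t ∈ F₀ := F₀.mul_mem (F₀.inv_mem (hm i)) (hm l)
    have hkv' : kv = k j • (e j - s • e i) + k l • (e l - t • e i) := by
      have h1 : kv = ∑ x, k x • e x := by rw [Fin.sum_univ_three]
      rw [h1, hall, hki]
      module
    have hR : ∀ (x : F) (j : Fin 3), x ∈ F₀ → e j - x • e i ∈ rat b F₀ := fun x j hx =>
      (rat b F₀).sub_mem (Fr.e_mem j) (rat_smul hx (Fr.e_mem i))
    have hpl : ∀ (x : F) (j : Fin 3), e j - x • e i ∈ pl (F := F) e := fun x j =>
      Submodule.sub_mem _ (e_mem_pl j) (Submodule.smul_mem _ _ (e_mem_pl i))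
    have hpp : polar Q (e j - s • e i) (e l - t • e i) = 0 := by
      rw [polar_sub_left, polar_sub_right, polar_sub_right, polar_smul_left, polar_smul_left,
        polar_smul_right, polar_smul_right]
      simp only [Fr.ee]
      simp
    have hne' : e j - s • e i ≠ 0 := by
      intro h0
      have := congrArg (fun z => polar Q (f j) z) h0
      simp only [polar_sub_right, polar_smul_right, Fr.fe, polar_zero_right] at this
      simp [hij] at this
    have h1 := hopp (hR s j hsF) (hR t l htF) (Fr.Q_pl (hpl s j)) (Fr.Q_pl (hpl t l)) hpp hne'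
      (α := k j) (β := k l) (by rw [← hkv']; exact hkva) (by rw [← hkv']; exact hkvb)
    exact hkv0 (by rw [hkv', h1])
  -- the group `G`
  let G : Subgroup (V ≃ₗ[F] V) :=
    { carrier := {g | g ∈ H ∧ g kv = kv ∧ ∀ v, (∀ i, polar Q (e i) v = 0) → polar Q a v = 0 →
        polar Q b' v = 0 → g v = v}
      mul_mem' := fun {g g'} hg hg' => ⟨H.mul_mem hg.1 hg'.1,
        by show g (g' kv) = kv; rw [hg'.2.1, hg.2.1],
        fun v h1 h2 h3 => by show g (g' v) = v; rw [hg'.2.2 v h1 h2 h3, hg.2.2 v h1 h2 h3]⟩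
      one_mem' := ⟨H.one_mem, rfl, fun _ _ _ _ => rfl⟩
      inv_mem' := fun {g} hg => ⟨H.inv_mem hg.1, by
          have h2 : g⁻¹ (g kv) = kv := LinearEquiv.symm_apply_apply g kv
          rwa [hg.2.1] at h2, fun v h1 h2 h3 => by
          have h4 : g⁻¹ (g v) = v := LinearEquiv.symm_apply_apply g v
          rwa [hg.2.2 v h1 h2 h3] at h4⟩ }
  have hmemG : ∀ g : V ≃ₗ[F] V, g ∈ G ↔ (g ∈ H ∧ g kv = kv ∧ ∀ v, (∀ i, polar Q (e i) v = 0) →
      polar Q a v = 0 → polar Q b' v = 0 → g v = v) := fun _ => Iff.rfl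
  have hPG : radP Q H e ≤ G := by
    intro g hg
    refine ⟨hg.1, ?_, fun v h1 _ _ => hg.2 v h1⟩
    exact hg.2 _ (mem_perp_iff.1 (Fr.pl_le_perp hkpl))
  have hyG : siegel Q a b' hsa hab ∈ G := by
    refine ⟨hyH, ?_, fun v _ h2 h3 => siegel_fix _ _ h2 h3⟩
    exact siegel_fix _ _ (by rw [polar_comm]; exact hkva) (by rw [polar_comm]; exact hkvb)
  obtain ⟨p, hp⟩ := CharP.exists F
  have : Fact p.Prime := ⟨CharP.char_is_prime F p⟩
  have key := Cfsg.Agent.H888.StrongP.le_of_self_normalizing (p := p) (radP Q H e) G (stR b F₀)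
    hPG ?_ (fun x hx y hy => radP_comm C Fr hx hy) (radP_not_cyclic C Fr)
    (fun x hx => radP_le_stR C (by omega) Fr hx)
    (fun g hg hg1 n hn' hc => radP_cent C hn Fr hg hg1 hn'.1 hc) ?_
  · exact hynot (key hyG)
  · -- p-group
    rintro ⟨g, hg⟩
    refine ⟨1, Subtype.ext ?_⟩
    show g ^ (p ^ 1) = 1
    ext w
    rw [pow_one, radP_pow C Fr hg, CharP.cast_eq_zero, zero_smul, add_zero]
    rfl
  · -- self-normalising
    intro n hnG hnP
    -- `n` stabilises the plane
    have hnpl' : ∀ g ∈ radP Q H e, ∀ t, n (g t - t) ∈ pl (F := F) e := by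
      intro g hg t
      have h1 := radP_sub C (hnP g hg) (n t)
      have h2 : (n * g * n⁻¹) (n t) = n (g t) := by
        show n (g (n⁻¹ (n t))) = n (g t)
        have : n⁻¹ (n t) = t := LinearEquiv.symm_apply_apply n t
        rw [this]
      rw [h2, ← map_sub] at h1
      exact h1
    have hn0 : n (e 0) ∈ pl (F := F) e := by
      have h1 := hnpl' _ (siegel_mem_radP C Fr 1 0) (f 1)
      rw [siegel_apply, Fr.Qe, Fr.ef, Fr.ef] at h1
      simp only [if_true, Fin.isValue, zero_ne_one, if_false, one_smul, zero_smul, zero_mul,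
        sub_zero, add_sub_cancel_left] at h1
      exact h1
    have hn1 : n (e 1) ∈ pl (F := F) e := by
      have h1 := hnpl' _ (siegel_mem_radP C Fr 0 1) (f 0)
      rw [siegel_apply, Fr.Qe, Fr.ef, Fr.ef] at h1
      simp only [if_true, Fin.isValue, one_ne_zero, if_false, one_smul, zero_smul, zero_mul,
        sub_zero, add_sub_cancel_left] at h1
      exact h1
    have hn2 : n (e 2) ∈ pl (F := F) e := by
      have h1 := hnpl' _ (siegel_mem_radP C Fr 0 2) (f 0)
      rw [siegel_apply, Fr.Qe, Fr.ef, Fr.ef] at h1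
      simp only [if_true, Fin.isValue, if_false, one_smul, zero_smul, zero_mul,
        sub_zero, add_sub_cancel_left, Fin.reduceEq] at h1
      exact h1
    have hnall : ∀ i, n (e i) ∈ pl (F := F) e := by
      intro i
      fin_cases i
      exacts [hn0, hn1, hn2]
    have hnst : ∀ x ∈ pl (F := F) e, n x ∈ pl (F := F) e := by
      intro x hx
      rw [Fr.exists_coord hx, map_sum]
      refine Submodule.sum_mem _ fun i _ => ?_
      rw [map_smul]
      exact Submodule.smul_mem _ _ (hnall i)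
    have hst' := Cfsg.Agent.H883.Bridge.mem_stab_of_le hnst
    have hnR : n ∈ stR b F₀ := by
      refine C.stab_sub (by omega) hnG.1 ?_ (fun x hx => Fr.Q_pl hx) ?_ Fr.ratSub_pl ?_
      · intro h0
        have h1 := e_mem_pl (F := F) (e := e) 0
        rw [h0] at h1
        exact hne 0 ((Submodule.mem_bot F).1 h1)
      · apply not_perp_le C.nondeg
        have h2 := finrank_pl_le (F := F) (e := e)
        omega
      · have e' : (pl (F := F) e).comap (n : V →ₗ[F] V) = pl e := by
          ext x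
          exact (hst' x).symm
        rw [e']
        exact Fr.ratSub_pl
    obtain ⟨c, hc, hcn⟩ := hnR
    have hnO := C.isom hnG.1
    have hc2 : c ^ 2 ∈ F₀ := by
      have h1 := (hcn (e 0 + f 0)).1 ((rat b F₀).add_mem (Fr.e_mem 0) (Fr.f_mem 0))
      have h2 := C.isRat _ h1
      rw [QuadraticMap.map_smul, mem_O.1 hnO, Q_add, Fr.Qe, Fr.Qf, Fr.ef] at h2
      simp only [if_true, zero_add, smul_eq_mul, mul_one] at h2
      rwa [pow_two]
    have hcF : c ∈ F₀ := by
      rcases Cfsg.Agent.H888.FieldDich.sq_mem F₀ hr hcard hc2 with h1 | h1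
      · exact h1
      · exfalso
        obtain ⟨m, hm, hm0, hsum⟩ := exists_relation F₀ h1 k
        exact hm0 (hind m hm hsum)
    have hnrat : ∀ v ∈ rat b F₀, n v ∈ rat b F₀ := by
      intro v hv
      have h1 := rat_smul (F₀.inv_mem hcF) ((hcn v).1 hv)
      rwa [smul_smul, inv_mul_cancel₀ hc, one_smul] at h1
    -- `n` is trivial on the plane
    have hne1 : ∀ i, n (e i) = e i := by
      have hcoord : ∀ j, ∑ i, (polar Q (f j) (n (e i)) - if i = j then 1 else 0) * k i = 0 := by
        intro j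
        have h1 : polar Q (f j) (n kv) = k j := by rw [hnG.2.1, hfk]
        rw [hkv] at h1
        simp only [map_add, map_smul, polar_add_right, polar_smul_right, smul_eq_mul] at h1
        rw [Fin.sum_univ_three]
        fin_cases j
        · simp only [Fin.zero_eta, Fin.isValue, if_true, one_ne_zero, if_false, sub_zero,
            Fin.reduceEq] at h1 ⊢
          linear_combination h1
        · simp only [Fin.mk_one, Fin.isValue, if_true, zero_ne_one, if_false, sub_zero,
            Fin.reduceEq] at h1 ⊢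
          linear_combination h1
        · simp only [Fin.reduceFinMk, Fin.isValue, if_true, if_false, sub_zero,
            Fin.reduceEq] at h1 ⊢
          linear_combination h1
      intro i
      have h2 : ∀ j, polar Q (f j) (n (e i)) = if i = j then 1 else 0 := by
        intro j
        have h3 := hind (fun i => polar Q (f j) (n (e i)) - if i = j then 1 else 0) ?_ (hcoord j)
        · have h4 := congrFun h3 i
          exact sub_eq_zero.1 h4
        · intro i
          refine F₀.sub_mem (C.isRat.polar (Fr.f_mem j) (hnrat _ (Fr.e_mem i))) ?_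
          split_ifs
          · exact F₀.one_mem
          · exact F₀.zero_mem
      rw [Fr.exists_coord (hnall i)]
      simp_rw [h2]
      simp
    -- conclusion
    refine ⟨hnG.1, fun v hv => ?_⟩
    -- correct `v` by an element of the plane
    set d := A 0 * B 1 - A 1 * B 0 with hd
    set x := polar Q a v with hx
    set y := polar Q b' v with hy
    set s : V := (d⁻¹ * (x * B 1 - y * A 1)) • e 0 + (d⁻¹ * (A 0 * y - B 0 * x)) • e 1 with hs
    have hsa' : polar Q a s = x := by
      rw [hs, polar_add_right, polar_smul_right, polar_smul_right, polar_comm Q a, hAi,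
        polar_comm Q a, hAi]
      simp only [smul_eq_mul]
      have : d⁻¹ * (x * B 1 - y * A 1) * A 0 + d⁻¹ * (A 0 * y - B 0 * x) * A 1 = d⁻¹ * d * x := by
        rw [hd]; ring
      rw [this, inv_mul_cancel₀ hdet, one_mul]
    have hsb' : polar Q b' s = y := by
      rw [hs, polar_add_right, polar_smul_right, polar_smul_right, polar_comm Q b', hBi,
        polar_comm Q b', hBi]
      simp only [smul_eq_mul]
      have : d⁻¹ * (x * B 1 - y * A 1) * B 0 + d⁻¹ * (A 0 * y - B 0 * x) * B 1 = d⁻¹ * d * y := by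
        rw [hd]; ring
      rw [this, inv_mul_cancel₀ hdet, one_mul]
    have hns : n s = s := by
      rw [hs, map_add, map_smul, map_smul, hne1, hne1]
    have hes : ∀ i, polar Q (e i) s = 0 := by
      intro i
      rw [hs, polar_add_right, polar_smul_right, polar_smul_right, Fr.ee, Fr.ee]
      simp
    have h1 : n (v - s) = v - s := by
      refine hnG.2.2 _ (fun i => ?_) ?_ ?_
      · rw [polar_sub_right, hv i, hes i, sub_zero]
      · rw [polar_sub_right, hsa', ← hx, sub_self]
      · rw [polar_sub_right, hsb', ← hy, sub_self]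
    have h2 : n v = n (v - s) + n s := by rw [← map_add, sub_add_cancel]
    rw [h2, h1, hns, sub_add_cancel]

/-- **Overgroups of the normaliser of a rational structure.** -/
theorem overgroups {H : Subgroup (V ≃ₗ[F] V)} (hQ : Nondeg Q) (hR : IsRat Q b F₀)
    (hn : 7 ≤ Fintype.card ι) {r : ℕ} (hr : r.Prime) (hcard : Nat.card F = Nat.card F₀ ^ r)
    (hle : stR b F₀ ⊓ E Q ≤ H) (hHE : H ≤ E Q) : H = stR b F₀ ⊓ E Q ∨ H = E Q := by
  rcases thin_or_E_le hQ hR hn hr hcard (hasRat_of_le hR hle) with h | h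
  · left
    have C : Ctx Q b F₀ H := ⟨hQ, hR, hle, hHE, h⟩
    exact le_antisymm (le_inf (C.le_stR hn hr hcard) hHE) hle
  · right
    exact le_antisymm hHE h

end Cfsg.Agent.H888.Rat
end
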